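import Cfsg.Agent.Lib.PGroup.SingerPair.Weights
import Mathlib

/-!
# Layers of a 2-group under commuting involutory and Singer automorphisms

`α` is an involutory automorphism whose fixed points are parametrised by a field on which `ρ` acts
as a primitive multiplier.  The layers are the preimages of iterated fixed points.
-/

set_option autoImplicit false

namespace CfsgLib.PGroup.SingerPair

open Subgroup
open scoped commutatorElement

/-- The data. -/
structure Ctx (Q : Type*) [Group Q] (F : Type) [Field F] where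
  al : MulAut Q
  ro : MulAut Q
  al_al : ∀ x, al (al x) = x
  comm : ∀ x, al (ro x) = ro (al x)
  n : ℕ
  two_le : 2 ≤ n
  card : Nat.card F = 2 ^ n
  g : Fˣ
  ord : orderOf g = 2 ^ n - 1
  ord_ro : orderOf ro = 2 ^ n - 1
  iota : F → Q
  iota_add : ∀ u v, iota (u + v) = iota u * iota v
  iota_inj : Function.Injective iota
  iota_fix : ∀ x, al x = x ↔ ∃ u, iota u = x
  ro_iota : ∀ u, ro (iota u) = iota ((g : F) * u)

namespace Ctx

variable {Q : Type*} [Group Q] {F : Type} [Field F] (C : Ctx Q F)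

theorem big : TransInvol.BigDiv C.n (orderOf C.g) :=
  ⟨C.two_le, 1, one_dvd _, by rw [mul_one, C.ord]⟩

/-- The deviation of `x` from a fixed point. -/
def d (x : Q) : Q := x⁻¹ * C.al x

theorem al_eq (x : Q) : C.al x = x * C.d x := (mul_inv_cancel_left _ _).symm

theorem d_mul (x y : Q) : C.d (x * y) = y⁻¹ * C.d x * y * C.d y := by
  simp only [d, map_mul]; group

theorem d_one : C.d 1 = 1 := by simp [d]

theorem d_inv (x : Q) : C.d x⁻¹ = x * (C.d x)⁻¹ * x⁻¹ := by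
  simp only [d, map_inv]; group

theorem al_d (x : Q) : C.al (C.d x) = (C.d x)⁻¹ := by
  simp only [d, map_mul, map_inv, C.al_al, mul_inv_rev, inv_inv]

theorem d_al (x : Q) : C.d (C.al x) = C.al (C.d x) := by
  simp only [d, map_mul, map_inv]

theorem d_ro (x : Q) : C.d (C.ro x) = C.ro (C.d x) := by
  simp only [d, map_mul, map_inv, C.comm]

theorem iota_zero : C.iota 0 = 1 := by
  have h := C.iota_add 0 0
  rw [add_zero] at h
  exact mul_eq_left.1 h.symm

/-- Field coordinates of fixed points. -/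
noncomputable def co (x : Q) : F := Function.invFun C.iota x

theorem iota_co {x : Q} (hx : C.al x = x) : C.iota (C.co x) = x :=
  Function.invFun_eq ((C.iota_fix x).1 hx)

theorem co_iota (u : F) : C.co (C.iota u) = u := Function.leftInverse_invFun C.iota_inj u

theorem al_iota (u : F) : C.al (C.iota u) = C.iota u := (C.iota_fix _).2 ⟨u, rfl⟩

theorem co_one : C.co 1 = 0 := by rw [← C.iota_zero, co_iota]

theorem co_mul {x y : Q} (hx : C.al x = x) (hy : C.al y = y) : C.co (x * y) = C.co x + C.co y := by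
  apply C.iota_inj
  rw [C.iota_add, C.iota_co hx, C.iota_co hy, C.iota_co (by rw [map_mul, hx, hy])]

theorem co_eq_zero {x : Q} (hx : C.al x = x) : C.co x = 0 ↔ x = 1 := by
  refine ⟨fun h => ?_, fun h => h ▸ C.co_one⟩
  rw [← C.iota_co hx, h, C.iota_zero]

theorem al_ro_of {x : Q} (hx : C.al x = x) : C.al (C.ro x) = C.ro x := by rw [C.comm, hx]

theorem co_ro {x : Q} (hx : C.al x = x) : C.co (C.ro x) = (C.g : F) * C.co x := by
  apply C.iota_inj
  rw [C.iota_co (C.al_ro_of hx), ← C.ro_iota, C.iota_co hx]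

theorem d_eq_one {x : Q} : C.d x = 1 ↔ C.al x = x := by
  rw [d, inv_mul_eq_one]; exact eq_comm

section Char

variable [CharP F 2]

theorem fixed_sq {x : Q} (hx : C.al x = x) : x * x = 1 := by
  rw [← C.iota_co hx, ← C.iota_add, CharTwo.add_self_eq_zero, C.iota_zero]

theorem fixed_inv {x : Q} (hx : C.al x = x) : x⁻¹ = x := inv_eq_of_mul_eq_one_right (C.fixed_sq hx)

theorem co_inv {x : Q} (hx : C.al x = x) : C.co x⁻¹ = C.co x := by rw [C.fixed_inv hx]

end Char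

/-- A layer: `N` modulo `M` is coordinatised by `c`. -/
structure Level where
  N : Subgroup Q
  M : Subgroup Q
  c : Q → F
  le : M ≤ N
  c_mul : ∀ x ∈ N, ∀ y ∈ N, c (x * y) = c x + c y
  c_zero : ∀ x ∈ N, (c x = 0 ↔ x ∈ M)
  c_ro : ∀ x ∈ N, c (C.ro x) = (C.g : F) * c x
  ro_N : ∀ x ∈ N, C.ro x ∈ N
  al_N : ∀ x ∈ N, C.al x ∈ N
  normal : N.Normal
  central : ∀ x ∈ N, ∀ h : Q, ⁅h, x⁆ ∈ M
  d_N : ∀ x ∈ N, C.d x ∈ M
  pre : ∀ x, C.d x ∈ M → x ∈ N
  surj : ∀ u, ∃ x ∈ N, c x = u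

theorem exists_central_fixed [Finite Q] (hQ : IsPGroup 2 Q) (N : Subgroup Q) [N.Normal]
    (hal : ∀ x ∈ N, C.al x ∈ N) (hne : N ≠ ⊤) :
    ∃ x, x ∉ N ∧ C.d x ∈ N ∧ ∀ h : Q, ⁅h, x⁆ ∈ N := by
  classical
  haveI : Fact (Nat.Prime 2) := ⟨Nat.prime_two⟩
  let f : Q ⧸ N →* Q ⧸ N := QuotientGroup.map N N C.al.toMonoidHom fun x hx => hal x hx
  have hf : ∀ x : Q, f x = (C.al x : Q) := fun x => rfl
  have hff : ∀ y, f (f y) = y := fun y => by
    obtain ⟨x, rfl⟩ := QuotientGroup.mk_surjective y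
    rw [hf, hf, C.al_al]
  haveI : Nontrivial (Q ⧸ N) := by
    rw [← Finite.one_lt_card_iff_nontrivial, ← Subgroup.index_eq_card]
    have h1 := Subgroup.index_ne_zero_of_finite (H := N)
    have h2 : N.index ≠ 1 := fun h => hne (Subgroup.index_eq_one.1 h)
    omega
  haveI := (hQ.to_quotient N).center_nontrivial
  have hz : ∀ z ∈ center (Q ⧸ N), f z ∈ center (Q ⧸ N) := fun z hz => mem_center_iff.2 fun y => by
    rw [← hff y, ← map_mul, ← map_mul, mem_center_iff.1 hz]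
  let σ : Equiv.Perm (center (Q ⧸ N)) := Function.Involutive.toPerm (fun z => ⟨f z, hz z z.2⟩)
    (fun z => Subtype.ext (hff z))
  haveI := Fintype.ofFinite (center (Q ⧸ N))
  have hσ : σ ^ 2 ^ 1 = 1 := Equiv.ext fun z => by
    rw [pow_one, pow_two]
    exact Subtype.ext (hff z)
  have hdvd : 2 ∣ Fintype.card (center (Q ⧸ N)) := by
    obtain ⟨k, hk⟩ := IsPGroup.iff_card.1 ((hQ.to_quotient N).to_subgroup (center (Q ⧸ N)))
    have h1 := Finite.one_lt_card_iff_nontrivial.2 ‹Nontrivial (center (Q ⧸ N))›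
    rw [← Nat.card_eq_fintype_card, hk]
    refine dvd_pow_self 2 fun h => ?_
    rw [hk, h, pow_zero] at h1
    omega
  obtain ⟨z, hzf, hz1⟩ := Equiv.Perm.exists_fixed_point_of_prime' hdvd hσ (a := 1)
    (Subtype.ext (map_one f))
  obtain ⟨x, hx⟩ := QuotientGroup.mk_surjective (z : Q ⧸ N)
  refine ⟨x, fun h => hz1 (Subtype.ext ?_), ?_, fun h => ?_⟩
  · rw [← hx]; exact (QuotientGroup.eq_one_iff x).2 h
  · have h1 : f (z : Q ⧸ N) = z := congrArg Subtype.val hzf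
    rw [← hx, hf, eq_comm, QuotientGroup.eq] at h1
    exact h1
  · rw [← QuotientGroup.eq_one_iff]
    show ((h * x * h⁻¹ * x⁻¹ : Q) : Q ⧸ N) = 1
    rw [QuotientGroup.mk_mul, QuotientGroup.mk_mul, QuotientGroup.mk_mul, QuotientGroup.mk_inv,
      QuotientGroup.mk_inv, hx, mem_center_iff.1 z.2 (h : Q ⧸ N), mul_inv_cancel_right, mul_inv_cancel]

theorem mem_comm_iff {N : Subgroup Q} (hN : N.Normal) {x y : Q} (hy : y ∈ N)
    (hx : ∀ h : Q, ⁅h, x⁆ ∈ N) (h : Q) : ⁅h, x * y⁆ ∈ N := by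
  have e : ⁅h, x * y⁆ = ⁅h, x⁆ * (x * (h * y * h⁻¹ * y⁻¹) * x⁻¹) := by
    simp only [commutatorElement_def]; group
  rw [e]
  exact mul_mem (hx h) (hN.conj_mem _ (mul_mem (hN.conj_mem y hy h) (inv_mem hy)) x)

/-- The bottom layer. -/
theorem exists_bottom [Finite Q] [CharP F 2] [Finite F] (hQ : IsPGroup 2 Q) [Nontrivial Q] :
    ∃ L : C.Level, L.M = ⊥ ∧ L.c = C.co := by
  let N : Subgroup Q :=
    { carrier := {x | C.al x = x}
      one_mem' := map_one _
      mul_mem' := fun {a b} (ha : C.al a = a) (hb : C.al b = b) => (map_mul _ a b).trans (by rw [ha, hb])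
      inv_mem' := fun {a} (ha : C.al a = a) => (map_inv _ a).trans (by rw [ha]) }
  have hmem : ∀ {x}, x ∈ N ↔ C.al x = x := Iff.rfl
  obtain ⟨x, hx, hdx, hxc⟩ := C.exists_central_fixed hQ ⊥
    (fun x hx => by rw [mem_bot.1 hx, map_one]; exact one_mem _) bot_ne_top
  have hxN : C.al x = x := C.d_eq_one.1 (mem_bot.1 hdx)
  let S : AddSubgroup F :=
    { carrier := {u | ∀ h, h * C.iota u = C.iota u * h}
      zero_mem' := fun h => by rw [C.iota_zero, mul_one, one_mul]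
      add_mem' := fun {a b} ha hb h => by
        rw [C.iota_add, ← mul_assoc, ha h, mul_assoc, hb h, ← mul_assoc]
      neg_mem' := fun {a} ha h => by rw [CharTwo.neg_eq]; exact ha h }
  have hS := TransInvol.eq_top_of_invariant C.card C.g C.big S (fun u hu h => by
      obtain ⟨h', rfl⟩ := C.ro.surjective h
      rw [← C.ro_iota, ← map_mul, hu h', map_mul])
    (s := C.co x) (fun h => by
      rw [C.iota_co hxN]
      exact commutatorElement_eq_one_iff_mul_comm.1 (mem_bot.1 (hxc h)))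
    (fun h => hx (by rw [mem_bot]; exact (C.co_eq_zero hxN).1 h))
  have hcen : ∀ y ∈ N, ∀ h, h * y = y * h := fun y hy h => by
    have := (hS ▸ AddSubgroup.mem_top (C.co y) : C.co y ∈ S) h
    rwa [C.iota_co hy] at this
  refine ⟨⟨N, ⊥, C.co, bot_le, fun a ha b hb => C.co_mul ha hb,
    fun a ha => (C.co_eq_zero ha).trans mem_bot.symm, fun a ha => C.co_ro ha, fun a ha => C.al_ro_of ha,
    fun a (ha : C.al a = a) => by show C.al (C.al a) = C.al a; rw [ha, ha],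
    ⟨fun a ha h => ?_⟩, fun a ha h => ?_, fun a ha => mem_bot.2 (C.d_eq_one.2 ha),
    fun a ha => C.d_eq_one.1 (mem_bot.1 ha), fun u => ⟨C.iota u, C.al_iota u, C.co_iota u⟩⟩, rfl, rfl⟩
  · rw [hcen a ha h, mul_inv_cancel_right]; exact ha
  · exact mem_bot.2 (commutatorElement_eq_one_iff_mul_comm.2 (hcen a ha h))

namespace Level

variable {C}

theorem M_normal (L : C.Level) [L.M.Normal] : L.M.Normal := inferInstance

theorem c_one (L : C.Level) : L.c 1 = 0 := (L.c_zero 1 (one_mem _)).2 (one_mem _)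

theorem c_inv [CharP F 2] (L : C.Level) {x : Q} (hx : x ∈ L.N) : L.c x⁻¹ = L.c x := by
  have h := L.c_mul x⁻¹ (inv_mem hx) x hx
  rw [inv_mul_cancel, L.c_one, eq_comm, CharTwo.add_eq_zero] at h
  exact h

theorem c_M (L : C.Level) {x : Q} (hx : x ∈ L.M) : L.c x = 0 := (L.c_zero x (L.le hx)).2 hx

theorem c_conj (L : C.Level) {x : Q} (hx : x ∈ L.N) (h : Q) : L.c (h * x * h⁻¹) = L.c x := by
  have e : h * x * h⁻¹ = ⁅h, x⁆ * x := by rw [commutatorElement_def]; group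
  rw [e, L.c_mul _ (L.le (L.central x hx h)) x hx, L.c_M (L.central x hx h), zero_add]

theorem sq_mem [CharP F 2] (L : C.Level) {x : Q} (hx : x ∈ L.N) : x * x ∈ L.M := by
  rw [← L.c_zero _ (mul_mem hx hx), L.c_mul x hx x hx, CharTwo.add_self_eq_zero]

theorem div_mem [CharP F 2] (L : C.Level) {x y : Q} (hx : x ∈ L.N) (hy : y ∈ L.N) (h : L.c x = L.c y) :
    x⁻¹ * y ∈ L.M := by
  rw [← L.c_zero _ (mul_mem (inv_mem hx) hy), L.c_mul _ (inv_mem hx) y hy, L.c_inv hx, h,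
    CharTwo.add_self_eq_zero]

theorem exists_next [Finite Q] [CharP F 2] [Finite F] (hQ : IsPGroup 2 Q) (L : C.Level) (hne : L.N ≠ ⊤) :
    ∃ L' : C.Level, L'.M = L.N ∧ L'.c = (fun x => L.c (C.d x)) ∧ ∀ x, x ∈ L'.N ↔ C.d x ∈ L.N := by
  haveI := L.normal
  let N' : Subgroup Q :=
    { carrier := {x | C.d x ∈ L.N}
      one_mem' := by show C.d 1 ∈ L.N; rw [C.d_one]; exact one_mem _
      mul_mem' := fun {a b} (ha : C.d a ∈ L.N) (hb : C.d b ∈ L.N) => by
        show C.d (a * b) ∈ L.N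
        rw [C.d_mul]
        refine mul_mem ?_ hb
        have := L.normal.conj_mem _ ha b⁻¹
        rwa [inv_inv] at this
      inv_mem' := fun {a} (ha : C.d a ∈ L.N) => by
        show C.d a⁻¹ ∈ L.N
        rw [C.d_inv]
        exact L.normal.conj_mem _ (inv_mem ha) a }
  have hmem : ∀ {x}, x ∈ N' ↔ C.d x ∈ L.N := Iff.rfl
  have hmul : ∀ a ∈ N', ∀ b ∈ N', L.c (C.d (a * b)) = L.c (C.d a) + L.c (C.d b) := by
    intro a ha b hb
    have h1 : L.c (b⁻¹ * C.d a * b) = L.c (C.d a) := by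
      have := L.c_conj (hmem.1 ha) b⁻¹
      rwa [inv_inv] at this
    rw [C.d_mul, L.c_mul _ _ _ (hmem.1 hb), h1]
    have := L.normal.conj_mem _ (hmem.1 ha) b⁻¹
    rwa [inv_inv] at this
  have hle : L.N ≤ N' := fun a ha => L.le (L.d_N a ha)
  have hro : ∀ a ∈ N', C.ro a ∈ N' := fun a ha => hmem.2 (by rw [C.d_ro]; exact L.ro_N _ ha)
  have hroc : ∀ a ∈ N', L.c (C.d (C.ro a)) = (C.g : F) * L.c (C.d a) := fun a ha => by
    rw [C.d_ro]; exact L.c_ro _ ha
  obtain ⟨x, hx, hdx, hxc⟩ := C.exists_central_fixed hQ L.N L.al_N hne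
  have hcx : L.c (C.d x) ≠ 0 := fun h => hx (L.pre x ((L.c_zero _ hdx).1 h))
  let S : AddSubgroup F :=
    { carrier := {u | ∃ y ∈ N', L.c (C.d y) = u ∧ ∀ h : Q, ⁅h, y⁆ ∈ L.N}
      zero_mem' := ⟨1, one_mem _, by rw [C.d_one, L.c_one], fun h => by
        rw [commutatorElement_one_right]; exact one_mem _⟩
      add_mem' := by
        rintro a b ⟨y, hy, rfl, hyc⟩ ⟨z, hz, rfl, hzc⟩
        refine ⟨y * z, mul_mem hy hz, hmul y hy z hz, fun h => ?_⟩
        have e : ⁅h, y * z⁆ = ⁅h, y⁆ * (y * ⁅h, z⁆ * y⁻¹) := by simp only [commutatorElement_def]; group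
        rw [e]
        exact mul_mem (hyc h) (L.normal.conj_mem _ (hzc h) y)
      neg_mem' := by
        rintro a ha
        rw [CharTwo.neg_eq]; exact ha }
  have hS := TransInvol.eq_top_of_invariant C.card C.g C.big S (by
      rintro _ ⟨y, hy, rfl, hyc⟩
      refine ⟨C.ro y, hro y hy, hroc y hy, fun h => ?_⟩
      obtain ⟨h', rfl⟩ := C.ro.surjective h
      rw [← map_commutatorElement]
      exact L.ro_N _ (hyc h'))
    (s := L.c (C.d x)) ⟨x, hdx, rfl, hxc⟩ hcx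
  have hsur : ∀ u, ∃ y ∈ N', L.c (C.d y) = u ∧ ∀ h : Q, ⁅h, y⁆ ∈ L.N := fun u => (hS ▸ AddSubgroup.mem_top u : u ∈ S)
  have hker : ∀ a ∈ N', L.c (C.d a) = 0 ↔ a ∈ L.N := fun a ha =>
    (L.c_zero _ ha).trans ⟨L.pre a, L.d_N a⟩
  have hcomm : ∀ a ∈ N', ∀ h : Q, ⁅h, a⁆ ∈ L.N := by
    intro a ha h
    obtain ⟨y, hy, hyu, hyc⟩ := hsur (L.c (C.d a))
    have hm : y⁻¹ * a ∈ L.N := by
      rw [← hker _ (mul_mem (inv_mem hy) ha), hmul _ (inv_mem hy) a ha]
      have h2 := hmul y⁻¹ (inv_mem hy) y hy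
      rw [inv_mul_cancel, C.d_one, L.c_one, eq_comm, CharTwo.add_eq_zero] at h2
      rw [h2, hyu, CharTwo.add_self_eq_zero]
    have := mem_comm_iff L.normal hm hyc h
    rwa [mul_inv_cancel_left] at this
  refine ⟨⟨N', L.N, fun a => L.c (C.d a), hle, hmul, hker, hroc, hro,
    fun a ha => hmem.2 (by rw [C.d_al]; exact L.al_N _ ha), ⟨fun a ha h => ?_⟩, hcomm,
    fun a ha => ha, fun a ha => ha, fun u => ?_⟩, rfl, rfl, fun x => Iff.rfl⟩
  · have e : h * a * h⁻¹ = ⁅h, a⁆ * a := by rw [commutatorElement_def]; group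
    rw [e]; exact mul_mem (hle (hcomm a ha h)) ha
  · obtain ⟨y, hy, hyu, -⟩ := hsur u
    exact ⟨y, hy, hyu⟩

end Level

/-- A pairing of two layers with values in the fixed field. -/
theorem exists_pairing [CharP F 2] (A B : C.Level) (f : Q → Q → F)
    (hl : ∀ x ∈ A.N, ∀ x' ∈ A.N, ∀ y ∈ B.N, f (x * x') y = f x y + f x' y)
    (hr : ∀ x ∈ A.N, ∀ y ∈ B.N, ∀ y' ∈ B.N, f x (y * y') = f x y + f x y')
    (hA : ∀ x ∈ A.M, ∀ y ∈ B.N, f x y = 0) (hB : ∀ x ∈ A.N, ∀ y ∈ B.M, f x y = 0)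
    (hro : ∀ x ∈ A.N, ∀ y ∈ B.N, f (C.ro x) (C.ro y) = (C.g : F) * f x y) :
    ∃ β : F → F → F, (∀ u v w, β (u + v) w = β u w + β v w) ∧ (∀ u v w, β u (v + w) = β u v + β u w) ∧
      (∀ u v, β ((C.g : F) * u) ((C.g : F) * v) = (C.g : F) * β u v) ∧
      ∀ x ∈ A.N, ∀ y ∈ B.N, β (A.c x) (B.c y) = f x y := by
  choose sA hsA hsA' using A.surj
  choose sB hsB hsB' using B.surj
  have key : ∀ x ∈ A.N, ∀ y ∈ B.N, f (sA (A.c x)) (sB (B.c y)) = f x y := by
    intro x hx y hy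
    have h1 := A.div_mem (hsA (A.c x)) hx (hsA' _)
    have h2 := B.div_mem (hsB (B.c y)) hy (hsB' _)
    have e1 : f x y = f (sA (A.c x)) y := by
      have := hl _ (hsA (A.c x)) _ (A.le h1) y hy
      rwa [mul_inv_cancel_left, hA _ h1 y hy, add_zero] at this
    have e2 : f (sA (A.c x)) y = f (sA (A.c x)) (sB (B.c y)) := by
      have := hr _ (hsA (A.c x)) _ (hsB (B.c y)) _ (B.le h2)
      rwa [mul_inv_cancel_left, hB _ (hsA _) _ h2, add_zero] at this
    rw [e1, e2]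
  refine ⟨fun u v => f (sA u) (sB v), fun u v w => ?_, fun u v w => ?_, fun u v => ?_, key⟩
  · have h := key (sA u * sA v) (mul_mem (hsA u) (hsA v)) (sB w) (hsB w)
    rw [A.c_mul _ (hsA u) _ (hsA v), hsA', hsA', hsB'] at h
    exact h.trans (hl _ (hsA u) _ (hsA v) _ (hsB w))
  · have h := key (sA u) (hsA u) (sB v * sB w) (mul_mem (hsB v) (hsB w))
    rw [B.c_mul _ (hsB v) _ (hsB w), hsA', hsB', hsB'] at h
    exact h.trans (hr _ (hsA u) _ (hsB v) _ (hsB w))
  · have h := key (C.ro (sA u)) (A.ro_N _ (hsA u)) (C.ro (sB v)) (B.ro_N _ (hsB v))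
    rw [A.c_ro _ (hsA u), B.c_ro _ (hsB v), hsA', hsB'] at h
    exact h.trans (hro _ (hsA u) _ (hsB v))

/-- The commutator pairing of a layer with values in a lower layer vanishes. -/
theorem commutator_mem_of_alternating [CharP F 2] [Finite F] (A T : C.Level)
    (hT : ∀ x ∈ A.N, ∀ y ∈ A.N, ⁅x, y⁆ ∈ T.N) (hM : ∀ x ∈ A.M, ∀ y ∈ A.N, ⁅x, y⁆ ∈ T.M) :
    ∀ x ∈ A.N, ∀ y ∈ A.N, ⁅x, y⁆ ∈ T.M := by
  have hswap : ∀ x y : Q, ⁅x, y⁆ = ⁅y, x⁆⁻¹ := fun x y => (commutatorElement_inv y x).symm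
  obtain ⟨β, h1, h2, h3, h4⟩ := C.exists_pairing A A (fun x y => T.c ⁅x, y⁆)
    (fun x hx x' hx' y hy => by
      have e : ⁅x * x', y⁆ = x * ⁅x', y⁆ * x⁻¹ * ⁅x, y⁆ := by simp only [commutatorElement_def]; group
      rw [e, T.c_mul _ (T.normal.conj_mem _ (hT x' hx' y hy) x) _ (hT x hx y hy), T.c_conj (hT x' hx' y hy),
        add_comm])
    (fun x hx y hy y' hy' => by
      have e : ⁅x, y * y'⁆ = ⁅x, y⁆ * (y * ⁅x, y'⁆ * y⁻¹) := by simp only [commutatorElement_def]; group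
      rw [e, T.c_mul _ (hT x hx y hy) _ (T.normal.conj_mem _ (hT x hx y' hy') y), T.c_conj (hT x hx y' hy')])
    (fun x hx y hy => T.c_M (hM x hx y hy))
    (fun x hx y hy => by
      rw [hswap, T.c_inv (hT y (A.le hy) x hx)]; exact T.c_M (hM y hy x hx))
    (fun x hx y hy => by rw [← map_commutatorElement]; exact T.c_ro _ (hT x hx y hy))
  have h0 := TransInvol.eq_zero_of_alternating C.card C.g C.big β h1 h2 (fun u => by
    obtain ⟨x, hx, rfl⟩ := A.surj u
    rw [h4 x hx x hx, commutatorElement_self, T.c_one]) h3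
  intro x hx y hy
  rw [← T.c_zero _ (hT x hx y hy), ← h4 x hx y hy, h0]

end Ctx

end CfsgLib.PGroup.SingerPair
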