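import Cfsg.Agent.Lib.PGroup.SingerPair.Basic
import Mathlib

/-!
# Groups with more than three layers are abelian
-/

set_option autoImplicit false

namespace CfsgLib.PGroup.SingerPair

open Subgroup
open scoped commutatorElement

namespace Ctx

variable {Q : Type*} [Group Q] {F : Type} [Field F] [CharP F 2] [Finite F] (C : Ctx Q F)

/-- An abelian layer inverted by `al`, with coordinates given by the `2 ^ k`-th power. -/
structure Inv (k : ℕ) where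
  L : C.Level
  com : ∀ x ∈ L.N, ∀ y ∈ L.N, Commute x y
  inv : ∀ y ∈ L.N, C.al y = y⁻¹
  cs : ∀ y ∈ L.N, C.iota (L.c y) = y ^ 2 ^ k

namespace Inv

variable {C} {k : ℕ} (I : C.Inv k)

theorem d_eq {y : Q} (hy : y ∈ I.L.N) : C.d y = y⁻¹ * y⁻¹ := by rw [Ctx.d, I.inv y hy]

theorem mem_M {y : Q} (hy : y ∈ I.L.N) : y ∈ I.L.M ↔ y ^ 2 ^ k = 1 := by
  rw [← I.L.c_zero y hy, ← I.cs y hy]
  exact ⟨fun h => by rw [h, C.iota_zero], fun h => C.iota_inj (h.trans C.iota_zero.symm)⟩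

theorem fixed_of_sq {w : Q} (hw : w ∈ I.L.N) (h : w * w = 1) : C.al w = w := by
  rw [I.inv w hw, inv_eq_of_mul_eq_one_right h]

theorem root : ∀ j, j ≤ k + 1 → ∀ y ∈ I.L.N, y ^ 2 ^ j = 1 → ∃ z ∈ I.L.N, z ^ 2 ^ (k + 1 - j) = y := by
  intro j
  induction j with
  | zero =>
    intro _ y _ h
    rw [pow_zero, pow_one] at h
    exact ⟨1, one_mem _, by rw [one_pow, h]⟩
  | succ j ih =>
    intro hj y hy h
    have hw : C.al (y ^ 2 ^ j) = y ^ 2 ^ j :=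
      I.fixed_of_sq (pow_mem hy _) (by rw [← pow_add, ← two_mul, ← pow_succ']; exact h)
    obtain ⟨w, hwN, hwc⟩ := I.L.surj (C.co (y ^ 2 ^ j))
    have hwk : w ^ 2 ^ k = y ^ 2 ^ j := by rw [← I.cs w hwN, hwc, C.iota_co hw]
    have e1 : 2 ^ (k + 1 - (j + 1)) * 2 ^ j = 2 ^ k := by rw [← pow_add]; congr 1; omega
    have hm : y * (w ^ 2 ^ (k + 1 - (j + 1)))⁻¹ ∈ I.L.N := mul_mem hy (inv_mem (pow_mem hwN _))
    have h1 : (y * (w ^ 2 ^ (k + 1 - (j + 1)))⁻¹) ^ 2 ^ j = 1 := by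
      rw [(I.com y hy _ (inv_mem (pow_mem hwN _))).mul_pow, inv_pow, ← pow_mul, e1, hwk, mul_inv_cancel]
    obtain ⟨z, hz, hze⟩ := ih (by omega) _ hm h1
    refine ⟨z ^ 2 * w, mul_mem (pow_mem hz 2) hwN, ?_⟩
    rw [(I.com _ (pow_mem hz 2) w hwN).mul_pow, ← pow_mul, ← pow_succ',
      show k + 1 - (j + 1) + 1 = k + 1 - j by omega, hze, inv_mul_cancel_right]

end Inv

variable [Finite Q] (hQ : IsPGroup 2 Q)
include hQ

/-- The layer above an abelian inverted layer is abelian. -/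
theorem next_commute {k : ℕ} (hk : 2 ≤ k) (I : C.Inv k) (L' : C.Level) (hM : L'.M = I.L.N)
    (hc : L'.c = fun x => I.L.c (C.d x)) (hN : ∀ x, x ∈ L'.N ↔ C.d x ∈ I.L.N) :
    ∀ x ∈ L'.N, ∀ y ∈ L'.N, Commute x y := by
  have hle : I.L.N ≤ L'.N := hM ▸ L'.le
  have hcom : ∀ {a b : Q}, a ∈ I.L.N → b ∈ I.L.N → a * b = b * a := fun ha hb => (I.com _ ha _ hb).eq
  have hbm : ∀ {x y : Q}, y ∈ I.L.N → ⁅x, y⁆ ∈ I.L.M := fun {x y} hy => I.L.central y hy x
  have hbN : ∀ {x y : Q}, y ∈ I.L.N → ⁅x, y⁆ ∈ I.L.N := fun hy => I.L.le (hbm hy)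
  have hbk : ∀ {x y : Q}, y ∈ I.L.N → ⁅x, y⁆ ^ 2 ^ k = 1 := fun hy => (I.mem_M (hbN hy)).1 (hbm hy)
  have hxx : ∀ x ∈ L'.N, x * x ∈ I.L.N := fun x hx => hM ▸ L'.sq_mem hx
  have hinvb : ∀ x ∈ L'.N, ∀ y ∈ I.L.N, ⁅x, ⁅x, y⁆⁆ = ⁅x, y⁆⁻¹ * ⁅x, y⁆⁻¹ := by
    intro x hx y hy
    have h1 : x * x * y * (x * x)⁻¹ = y := by rw [hcom (hxx x hx) hy, mul_inv_cancel_right]
    rw [show x * x * y * (x * x)⁻¹ = (x * ⁅x, y⁆ * x⁻¹) * (⁅x, y⁆ * y) by
      simp only [commutatorElement_def]; group, ← mul_assoc, mul_eq_right] at h1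
    rw [commutatorElement_def x ⁅x, y⁆, eq_inv_of_mul_eq_one_left h1]
  have hpow : ∀ x : Q, ∀ y ∈ I.L.N, ∀ m : ℕ, ⁅x, y ^ m⁆ = ⁅x, y⁆ ^ m := by
    intro x y hy m
    have e : x * y * x⁻¹ = ⁅x, y⁆ * y := by rw [commutatorElement_def]; group
    rw [commutatorElement_def x (y ^ m), ← conj_pow, e, (I.com _ (hbN hy) y hy).mul_pow, mul_inv_cancel_right]
  have hlm : ∀ x : Q, ∀ y ∈ I.L.N, ∀ y' ∈ I.L.N, ⁅x, y * y'⁆ = ⁅x, y⁆ * ⁅x, y'⁆ := by
    intro x y hy y' hy'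
    have e : ⁅x, y * y'⁆ = ⁅x, y⁆ * (y * ⁅x, y'⁆ * y⁻¹) := by simp only [commutatorElement_def]; group
    rw [e, hcom hy (hbN hy'), mul_inv_cancel_right]
  -- a pairing given by a power of the commutator
  have hpair : ∀ s : ℕ, (∀ x ∈ L'.N, ∀ y ∈ I.L.N, (⁅x, y⁆ ^ 2 ^ s) * (⁅x, y⁆ ^ 2 ^ s) = 1) →
      (∀ x ∈ L'.N, ∀ y ∈ I.L.M, ⁅x, y⁆ ^ 2 ^ s = 1) →
      ∃ β : F → F → F, (∀ u v w, β (u + v) w = β u w + β v w) ∧ (∀ u v w, β u (v + w) = β u v + β u w) ∧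
        (∀ u v, β ((C.g : F) * u) ((C.g : F) * v) = (C.g : F) * β u v) ∧
        ∀ x ∈ L'.N, ∀ y ∈ I.L.N, β (L'.c x) (I.L.c y) = C.co (⁅x, y⁆ ^ 2 ^ s) := by
    intro s hs hsM
    have hfix : ∀ x ∈ L'.N, ∀ y ∈ I.L.N, C.al (⁅x, y⁆ ^ 2 ^ s) = ⁅x, y⁆ ^ 2 ^ s := fun x hx y hy =>
      I.fixed_of_sq (pow_mem (hbN hy) _) (hs x hx y hy)
    obtain ⟨L0, hL0M, hL0c⟩ : ∃ L : C.Level, L.M = ⊥ ∧ L.c = C.co := by
      haveI : Nontrivial Q := ⟨⟨C.iota 1, C.iota 0, fun h => one_ne_zero (C.iota_inj h)⟩⟩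
      exact C.exists_bottom hQ
    refine C.exists_pairing L' I.L (fun x y => C.co (⁅x, y⁆ ^ 2 ^ s)) ?_ ?_ ?_ ?_ ?_
    · intro x hx x' hx' y hy
      have e : ⁅x * x', y⁆ = x * ⁅x', y⁆ * x⁻¹ * ⁅x, y⁆ := by simp only [commutatorElement_def]; group
      have hwN : ⁅x', y⁆ ^ 2 ^ s ∈ L0.N :=
        L0.pre _ (by rw [hL0M, mem_bot]; exact C.d_eq_one.2 (hfix x' hx' y hy))
      have hwc : x * ⁅x', y⁆ ^ 2 ^ s * x⁻¹ = ⁅x', y⁆ ^ 2 ^ s := by
        have h := L0.central _ hwN x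
        rw [hL0M, mem_bot, commutatorElement_def, mul_inv_eq_one] at h
        exact h
      show C.co _ = C.co _ + C.co _
      rw [e, (I.com _ (I.L.normal.conj_mem _ (hbN hy) x) _ (hbN hy)).mul_pow, conj_pow, hwc,
        C.co_mul (hfix x' hx' y hy) (hfix x hx y hy), add_comm]
    · intro x hx y hy y' hy'
      show C.co _ = C.co _ + C.co _
      rw [hlm x y hy y' hy', (I.com _ (hbN hy) _ (hbN hy')).mul_pow,
        C.co_mul (hfix x hx y hy) (hfix x hx y' hy')]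
    · intro x hx y hy
      rw [hM] at hx
      show C.co _ = 0
      rw [commutatorElement_eq_one_iff_mul_comm.2 (hcom hx hy), one_pow, C.co_one]
    · intro x hx y hy
      show C.co _ = 0
      rw [hsM x hx y hy, C.co_one]
    · intro x hx y hy
      show C.co _ = _ * C.co _
      rw [← map_commutatorElement, ← map_pow, C.co_ro (hfix x hx y hy)]
  -- commutators with the lower layer square to one
  have step : ∀ s, 1 ≤ s → s + 1 ≤ k → (∀ x ∈ L'.N, ∀ y ∈ I.L.N, ⁅x, y⁆ ^ 2 ^ (s + 1) = 1) →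
      ∀ x ∈ L'.N, ∀ y ∈ I.L.N, ⁅x, y⁆ ^ 2 ^ s = 1 := by
    intro s hs hsk IH
    rcases (show s + 2 ≤ k ∨ k = s + 1 by omega) with h | h
    · intro x hx y hy
      obtain ⟨z, hz, hze⟩ := I.root (s + 1) (by omega) _ (hbN hy) (IH x hx y hy)
      have h1 := hinvb x hx y hy
      rw [← hze, hpow x z hz, hze, ← pow_two] at h1
      have h2 := congrArg (· ^ 2 ^ (s - 1)) h1
      simp only [← pow_mul] at h2
      rw [← pow_add, show k + 1 - (s + 1) + (s - 1) = k - 1 by omega, ← pow_succ',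
        show s - 1 + 1 = s by omega, inv_pow] at h2
      have h3 : ⁅x, z⁆ ^ 2 ^ (k - 1) = 1 := by
        rw [show k - 1 = (s + 1) + (k - 1 - (s + 1)) by omega, pow_add, pow_mul, IH x hx z hz, one_pow]
      rw [h3, eq_comm, inv_eq_one] at h2
      exact h2
    · obtain ⟨β, h1, h2, h3, h4⟩ := hpair s
        (fun x hx y hy => by rw [← pow_add, ← two_mul, ← pow_succ']; exact IH x hx y hy)
        (fun x hx y hy => by
          obtain ⟨z, hz, hze⟩ := I.root k (by omega) y (I.L.le hy) ((I.mem_M (I.L.le hy)).1 hy)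
          rw [← hze, hpow x z hz, ← pow_mul, ← pow_add, show k + 1 - k + s = s + 1 by omega, IH x hx z hz])
      have h0 := form_zero_of_idem C.card C.g C.big β h1 h2 h3 fun u v => by
        obtain ⟨x, hx, rfl⟩ := L'.surj u
        obtain ⟨y, hy, rfl⟩ := I.L.surj v
        obtain ⟨z, hz, hze⟩ := I.root (s + 1) (by omega) _ (hbN hy) (IH x hx y hy)
        rw [show k + 1 - (s + 1) = 1 by omega, pow_one] at hze
        have hsq := hinvb x hx y hy
        rw [← hze, hpow x z hz, hze, ← pow_two] at hsq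
        have hcz : I.L.c z = C.co (⁅x, y⁆ ^ 2 ^ s) := by
          apply C.iota_inj
          rw [I.cs z hz, C.iota_co (I.fixed_of_sq (pow_mem (hbN hy) _)
            (by rw [← pow_add, ← two_mul, ← pow_succ']; exact IH x hx y hy)), h, pow_succ', pow_mul, hze]
        rw [h4 x hx y hy, ← hcz, h4 x hx z hz, hcz]
        congr 1
        have h5 : ⁅x, z⁆ ^ 2 ^ s = (⁅x, y⁆ ^ 2 ^ s)⁻¹ := by
          rw [show 2 ^ s = 2 * 2 ^ (s - 1) by rw [← pow_succ']; congr 1; omega, pow_mul ⁅x, z⁆, hsq, ← pow_mul,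
            inv_pow]
        rw [h5, inv_eq_of_mul_eq_one_right (by rw [← pow_add, ← two_mul, ← pow_succ']; exact IH x hx y hy)]
      intro x hx y hy
      have h5 := h0 (L'.c x) (I.L.c y)
      rw [h4 x hx y hy] at h5
      exact (C.co_eq_zero (I.fixed_of_sq (pow_mem (hbN hy) _)
        (by rw [← pow_add, ← two_mul, ← pow_succ']; exact IH x hx y hy))).1 h5
  have hdesc : ∀ j, j + 1 ≤ k → ∀ x ∈ L'.N, ∀ y ∈ I.L.N, ⁅x, y⁆ ^ 2 ^ (k - j) = 1 := by
    intro j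
    induction j with
    | zero => exact fun _ x _ y hy => hbk hy
    | succ j ih =>
      intro hj
      refine step (k - (j + 1)) (by omega) (by omega) ?_
      rw [show k - (j + 1) + 1 = k - j by omega]
      exact ih (by omega)
  have hb2 : ∀ x ∈ L'.N, ∀ y ∈ I.L.N, ⁅x, y⁆ * ⁅x, y⁆ = 1 := fun x hx y hy => by
    have := hdesc (k - 1) (by omega) x hx y hy
    rwa [show k - (k - 1) = 1 by omega, pow_one, pow_two] at this
  have hMc : ∀ x ∈ L'.N, ∀ y ∈ I.L.M, ⁅x, y⁆ = 1 := by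
    intro x hx y hy
    obtain ⟨z, hz, hze⟩ := I.root k (by omega) y (I.L.le hy) ((I.mem_M (I.L.le hy)).1 hy)
    rw [show k + 1 - k = 1 by omega, pow_one] at hze
    rw [← hze, hpow x z hz, pow_two, hb2 x hx z hz]
  -- elements commute with their deviations
  have hdel : ∀ x ∈ L'.N, ⁅x, C.d x⁆ = 1 := by
    intro x hx
    set δ := C.d x with hδdef
    set p := x * x with hpdef
    have hδ : δ ∈ I.L.N := (hN x).1 hx
    have hp : p ∈ I.L.N := hxx x hx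
    set b := ⁅x, δ⁆ with hbdef
    have hal : C.al p = x * δ * (x * δ) := by rw [hpdef, map_mul, C.al_eq]
    rw [I.inv p hp, show x * δ * (x * δ) = ⁅x, δ⁆ * δ * (x * x) * δ by
      simp only [commutatorElement_def]; group, ← hpdef, ← hbdef] at hal
    have hb := hb2 x hx δ hδ
    rw [← hbdef] at hb
    have hbi : b⁻¹ = b := inv_eq_of_mul_eq_one_right hb
    have hbN' : b ∈ I.L.N := hbN hδ
    have key : δ * p * (δ * p) = b := by
      have e : b * (δ * p * (δ * p)) = (b * δ * p * δ) * p := by group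
      rw [← hbi]
      apply eq_inv_of_mul_eq_one_right
      rw [e, ← hal, inv_mul_cancel]
    have hm : δ * p ∈ I.L.M := by
      rw [I.mem_M (mul_mem hδ hp)]
      have h4 : (δ * p) ^ 2 ^ 2 = 1 := by
        rw [show (2 : ℕ) ^ 2 = 2 + 2 from rfl, pow_add, pow_two, key, hb]
      rw [show 2 ^ k = 2 ^ 2 * 2 ^ (k - 2) by rw [← pow_add]; congr 1; omega, pow_mul, h4, one_pow]
    have h := hMc x hx _ hm
    rw [hlm x δ hδ p hp, ← hbdef, show ⁅x, p⁆ = 1 from commutatorElement_eq_one_iff_mul_comm.2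
      (by rw [hpdef, mul_assoc]), mul_one] at h
    exact h
  -- the lower layer is central
  have hN1 : ∀ x ∈ L'.N, ∀ y ∈ I.L.N, ⁅x, y⁆ = 1 := by
    obtain ⟨β, h1, h2, h3, h4⟩ := hpair 0
      (fun x hx y hy => by rw [pow_zero, pow_one]; exact hb2 x hx y hy)
      (fun x hx y hy => by rw [pow_zero, pow_one]; exact hMc x hx y hy)
    have h0 := TransInvol.eq_zero_of_alternating C.card C.g C.big β h1 h2 (fun u => by
      obtain ⟨x, hx, rfl⟩ := L'.surj u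
      have h5 := h4 x hx (C.d x) ((hN x).1 hx)
      rw [show I.L.c (C.d x) = L'.c x by rw [hc], hdel x hx, one_pow, C.co_one] at h5
      exact h5) h3
    intro x hx y hy
    have h5 := h0 (L'.c x) (I.L.c y)
    rw [h4 x hx y hy, pow_zero, pow_one] at h5
    exact (C.co_eq_zero (I.fixed_of_sq (hbN hy) (hb2 x hx y hy))).1 h5
  have hT : ∀ x ∈ L'.N, ∀ y ∈ L'.N, ⁅x, y⁆ ∈ I.L.N := fun x _ y hy => hM ▸ L'.central y hy x
  have hsw : ∀ x ∈ L'.M, ∀ y ∈ L'.N, ⁅x, y⁆ = 1 := by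
    intro x hx y hy
    rw [hM] at hx
    rw [← commutatorElement_inv y x, hN1 y hy x hx, inv_one]
  have hTM := C.commutator_mem_of_alternating L' I.L hT
    (fun x hx y hy => by rw [hsw x hx y hy]; exact one_mem _)
  have hsq : ∀ x ∈ L'.N, ∀ y ∈ L'.N, ⁅x, y⁆ * ⁅x, y⁆ = 1 := by
    intro x hx y hy
    have h1 : ⁅x * x, y⁆ = 1 := hsw _ (hM.symm ▸ hxx x hx) y hy
    have hc' : x * ⁅x, y⁆ * x⁻¹ = ⁅x, y⁆ := by
      have := commutatorElement_eq_one_iff_mul_comm.1 (hN1 x hx _ (hT x hx y hy))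
      rw [this, mul_inv_cancel_right]
    rw [show ⁅x * x, y⁆ = x * ⁅x, y⁆ * x⁻¹ * ⁅x, y⁆ by simp only [commutatorElement_def]; group, hc'] at h1
    exact h1
  haveI : Nontrivial Q := ⟨⟨C.iota 1, C.iota 0, fun h => one_ne_zero (C.iota_inj h)⟩⟩
  obtain ⟨L0, hL0M, hL0c⟩ := C.exists_bottom hQ
  have hfin := C.commutator_mem_of_alternating L' L0
    (fun x hx y hy => L0.pre _ (by
      rw [hL0M, mem_bot]; exact C.d_eq_one.2 (I.fixed_of_sq (hT x hx y hy) (hsq x hx y hy))))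
    (fun x hx y hy => by rw [hsw x hx y hy]; exact one_mem _)
  intro x hx y hy
  have := hfin x hx y hy
  rw [hL0M, mem_bot] at this
  exact commutatorElement_eq_one_iff_mul_comm.1 this

/-- An inverted abelian layer with `k ≥ 2` forces the group to be abelian. -/
theorem commute_of_inv (m : ℕ) : ∀ (k : ℕ), 2 ≤ k → ∀ I : C.Inv k,
    Nat.card Q - Nat.card I.L.N = m → ∀ x y : Q, Commute x y := by
  induction m using Nat.strong_induction_on with
  | _ m ih =>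
  intro k hk I hm
  by_cases htop : I.L.N = ⊤
  · exact fun x y => I.com x (htop ▸ mem_top x) y (htop ▸ mem_top y)
  obtain ⟨L', hM, hc, hN⟩ := I.L.exists_next hQ htop
  have hab := C.next_commute hQ hk I L' hM hc hN
  by_cases htop' : L'.N = ⊤
  · exact fun x y => hab x (htop' ▸ mem_top x) y (htop' ▸ mem_top y)
  obtain ⟨L'', hM', hc', hN'⟩ := L'.exists_next hQ htop'
  have hinv : ∀ y ∈ L'.N, C.al y = y⁻¹ := by
    intro y hy
    obtain ⟨z, hz, hzc⟩ := L''.surj (L'.c y)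
    rw [hc'] at hzc
    have hdz : C.d z ∈ L'.N := (hN' z).1 hz
    have hrm := L'.div_mem hdz hy hzc
    rw [hM] at hrm
    have e : y = C.d z * ((C.d z)⁻¹ * y) := by group
    rw [e, map_mul, C.al_d, I.inv _ hrm, mul_inv_rev ((C.d z)) ((C.d z)⁻¹ * y)]
    exact (hab _ (inv_mem hdz) _ (inv_mem (L'.le (by rw [hM]; exact hrm)))).eq
  let I' : C.Inv (k + 1) :=
    { L := L', com := hab, inv := hinv
      cs := fun y hy => by
        have hd : C.d y ∈ I.L.N := (hN y).1 hy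
        have e : C.d y = (y * y)⁻¹ := by rw [Ctx.d, hinv y hy, mul_inv_rev]
        have hfix : C.al (C.d y ^ 2 ^ k) = C.d y ^ 2 ^ k := by
          rw [← I.cs _ hd]; exact C.al_iota _
        rw [hc]
        show C.iota (I.L.c (C.d y)) = _
        rw [I.cs _ hd, ← C.fixed_inv hfix, e, inv_pow, inv_inv, pow_succ', pow_mul, pow_two] }
  refine ih _ ?_ (k + 1) (by omega) I' rfl
  show Nat.card Q - Nat.card L'.N < m
  have hlt : Nat.card I.L.N < Nat.card L'.N := by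
    refine lt_of_le_of_ne (card_le_of_le (hM ▸ L'.le)) fun e => ?_
    obtain ⟨x, hx, hxc⟩ := L'.surj 1
    have heq := eq_of_le_of_card_ge (hM ▸ L'.le) e.ge
    rw [← heq, ← hM] at hx
    rw [L'.c_M hx] at hxc
    exact zero_ne_one hxc
  have := Subgroup.card_le_card_group L'.N
  omega

/-- With a fourth layer the group is abelian. -/
theorem commute_of_four (L0 L1 L2 : C.Level) (h0 : L0.M = ⊥) (h0c : L0.c = C.co) (h1 : L1.M = L0.N)
    (h1c : L1.c = fun x => L0.c (C.d x)) (h2 : L2.M = L1.N) (h2c : L2.c = fun x => L1.c (C.d x))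
    (htop : L2.N ≠ ⊤) : ∀ x y : Q, Commute x y := by
  obtain ⟨L3, h3, h3c, h3N⟩ := L2.exists_next hQ htop
  have hC : ∀ {c : Q}, c ∈ L0.N → C.al c = c := fun {c} hc => by
    have := L0.d_N c hc
    rw [h0, mem_bot] at this
    exact C.d_eq_one.1 this
  have hcen : ∀ {c : Q}, c ∈ L0.N → ∀ h : Q, h * c = c * h := fun {c} hc h => by
    have := L0.central c hc h
    rw [h0, mem_bot] at this
    exact commutatorElement_eq_one_iff_mul_comm.1 this
  have hT : ∀ x ∈ L2.N, ∀ y ∈ L2.N, ⁅x, y⁆ ∈ L1.N := fun x _ y hy => h2 ▸ L2.central y hy x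
  have hM1 : ∀ x ∈ L2.M, ∀ y, ⁅x, y⁆ ∈ L0.N := fun x hx y => by
    rw [h2] at hx
    rw [← commutatorElement_inv y x]
    exact inv_mem (h1 ▸ L1.central x hx y)
  have hTM := C.commutator_mem_of_alternating L2 L1 hT (fun x hx y _ => h1.symm ▸ hM1 x hx y)
  have hT0 : ∀ x ∈ L2.N, ∀ y ∈ L2.N, ⁅x, y⁆ ∈ L0.N := fun x hx y hy => h1 ▸ hTM x hx y hy
  -- squares of deviations cover the middle layer
  have hsq : ∀ y ∈ L1.N, ∃ δ ∈ L2.N, C.al δ = δ⁻¹ ∧ ∃ c ∈ L0.N, y = δ * δ * c := by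
    intro y hy
    obtain ⟨z, hz, hzc⟩ := L3.surj (L1.c y)
    rw [h3c] at hzc
    have hδ : C.d z ∈ L2.N := (h3N z).1 hz
    have hδ2 : C.d z * C.d z ∈ L1.N := h2 ▸ L2.sq_mem hδ
    have hval : L1.c (C.d z * C.d z) = L2.c (C.d z) := by
      have e : C.d (C.d z) = (C.d z * C.d z)⁻¹ := by rw [mul_inv_rev]; show (C.d z)⁻¹ * C.al (C.d z) = _; rw [C.al_d]
      rw [h2c]
      show _ = L1.c (C.d (C.d z))
      rw [e, L1.c_inv hδ2]
    have hm := L1.div_mem hδ2 hy (hval.trans hzc)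
    rw [h1] at hm
    exact ⟨C.d z, hδ, C.al_d z, _, hm, (mul_inv_cancel_left _ _).symm⟩
  have hcc : ∀ x ∈ L2.N, ∀ y ∈ L2.N, x * ⁅x, y⁆ * x⁻¹ = ⁅x, y⁆ := fun x hx y hy => by
    rw [hcen (hT0 x hx y hy) x, mul_inv_cancel_right]
  have hP1 : ∀ y ∈ L1.N, ∀ x ∈ L2.N, ⁅y, x⁆ = 1 := by
    intro y hy x hx
    obtain ⟨δ, hδ, -, c, hc, rfl⟩ := hsq y hy
    have h5 : ⁅δ, x⁆ * ⁅δ, x⁆ = 1 := C.fixed_sq (hC (hT0 δ hδ x hx))
    have h6 : ⁅c, x⁆ = 1 := commutatorElement_eq_one_iff_mul_comm.2 (hcen hc x).symm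
    rw [show ⁅δ * δ * c, x⁆ = δ * δ * ⁅c, x⁆ * (δ * δ)⁻¹ * (δ * ⁅δ, x⁆ * δ⁻¹ * ⁅δ, x⁆) by
      simp only [commutatorElement_def]; group, h6, mul_one, mul_inv_cancel, one_mul, hcc δ hδ x hx, h5]
  have hab : ∀ x ∈ L2.N, ∀ y ∈ L2.N, Commute x y := by
    intro x hx y hy
    have h := C.commutator_mem_of_alternating L2 L0 hT0 (fun x hx y hy => by
      rw [h2] at hx; rw [hP1 x hx y hy]; exact one_mem _) x hx y hy
    rw [h0, mem_bot] at h
    exact commutatorElement_eq_one_iff_mul_comm.1 h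
  have hinv1 : ∀ y ∈ L1.N, C.al y = y⁻¹ := by
    intro y hy
    obtain ⟨δ, hδ, hal, c, hc, rfl⟩ := hsq y hy
    rw [map_mul, map_mul, hal, hC hc, mul_inv_rev, mul_inv_rev, C.fixed_inv (hC hc), hcen hc]
  have hinv : ∀ y ∈ L2.N, C.al y = y⁻¹ := by
    intro y hy
    obtain ⟨z, hz, hzc⟩ := L3.surj (L2.c y)
    rw [h3c] at hzc
    have hδ : C.d z ∈ L2.N := (h3N z).1 hz
    have hm := L2.div_mem hδ hy hzc
    have hm' := hm
    rw [h2] at hm'
    have e : y = C.d z * ((C.d z)⁻¹ * y) := by group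
    rw [e, map_mul, C.al_d, hinv1 _ hm', mul_inv_rev (C.d z) ((C.d z)⁻¹ * y)]
    exact (hab _ (inv_mem hδ) _ (inv_mem (L2.le hm))).eq
  refine C.commute_of_inv hQ _ 2 le_rfl ⟨L2, hab, hinv, fun y hy => ?_⟩ rfl
  have hy1 : C.d y ∈ L1.N := h2 ▸ L2.d_N y hy
  have hy0 : C.d (C.d y) ∈ L0.N := h1 ▸ L1.d_N _ hy1
  rw [h2c, h1c, h0c]
  show C.iota (C.co (C.d (C.d y))) = _
  rw [C.iota_co (hC hy0)]
  have e : C.d (C.d y) = y * y * (y * y) := by
    rw [Ctx.d, hinv1 _ hy1, Ctx.d, hinv y hy]; simp only [mul_inv_rev, inv_inv, mul_assoc]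
  rw [e, show (2 : ℕ) ^ 2 = 2 + 2 from rfl, pow_add, pow_two]

end Ctx

end CfsgLib.PGroup.SingerPair
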