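import Cfsg.Agent.Lib.PGroup.SingerPair.Models
import Cfsg.Agent.Lib.PGroup.TransInvol.Cyclic
import Mathlib
import Cfsg.Prelude

/-!
# Nonabelian 2-groups with commuting involutory and Singer automorphisms
-/

set_option autoImplicit false

namespace CfsgLib.PGroup.SingerPair

open Subgroup
open scoped commutatorElement

theorem exists_square_data' {Q : Type*} [Group Q] [Finite Q] (hQ : IsPGroup 2 Q) {F : Type} [Field F]
    [Finite F] [CharP F 2] (C : Ctx Q F) (hna : ∃ x y : Q, ¬ Commute x y) :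
    ∃ m : F, Nonempty (SquareData Q F m) := by
  haveI : Nontrivial Q := ⟨⟨C.iota 1, C.iota 0, fun h => one_ne_zero (C.iota_inj h)⟩⟩
  obtain ⟨L0, h0, h0c⟩ := C.exists_bottom hQ
  have hc0 : ∀ c ∈ L0.N, ∀ h : Q, ⁅h, c⁆ = 1 := fun c hc h => by
    have := L0.central c hc h
    rwa [h0, mem_bot] at this
  obtain ⟨L1, h1, h1c, -⟩ := L0.exists_next hQ fun htop => by
    obtain ⟨x, y, hxy⟩ := hna
    exact hxy (commutatorElement_eq_one_iff_mul_comm.1 (hc0 y (htop ▸ mem_top y) x))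
  have hab1 : ∀ x ∈ L1.N, ∀ y ∈ L1.N, ⁅x, y⁆ = 1 := by
    intro x hx y hy
    have h := C.commutator_mem_of_alternating L1 L0 (fun x _ y hy => h1 ▸ L1.central y hy x)
      (fun x hx y _ => by
        rw [h1] at hx
        rw [← commutatorElement_inv y x, hc0 x hx y, inv_one]; exact one_mem _) x hx y hy
    rwa [h0, mem_bot] at h
  obtain ⟨L2, h2, h2c, -⟩ := L1.exists_next hQ fun htop => by
    obtain ⟨x, y, hxy⟩ := hna
    exact hxy (commutatorElement_eq_one_iff_mul_comm.1 (hab1 x (htop ▸ mem_top x) y (htop ▸ mem_top y)))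
  by_cases htop : L2.N = ⊤
  · exact C.exists_square_data L0 L1 L2 h0 h0c h1 h1c h2 h2c htop hna
  · obtain ⟨x, y, hxy⟩ := hna
    exact absurd (C.commute_of_four hQ L0 L1 L2 h0 h0c h1 h1c h2 h2c htop x y) hxy

theorem classify {Q : Type*} [Group Q] [Finite Q] (hQ : IsPGroup 2 Q) (hna : ¬ IsMulCommutative Q)
    (n : ℕ) (hn : 2 ≤ n) (α ρ : MulAut Q) (hα : orderOf α = 2) (hρ : orderOf ρ = 2 ^ n - 1)
    (hc : Commute α ρ) (C : Subgroup Q) (hC : ∀ x : Q, x ∈ C ↔ α x = x)
    (hCE : Cfsg.IsElementaryAbelian 2 C ∧ Nat.card ↥C = 2 ^ n)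
    (htr : ∀ x y : Q, x ∈ C → y ∈ C → x ≠ 1 → y ≠ 1 → ∃ k : ℕ, (ρ ^ k) x = y) :
    (∃ (F : Type) (_ : Field F) (_ : Fintype F), Fintype.card F = 4 ^ n ∧
        ∃ S : Sylow 2 (Cfsg.PSU 3 F (2 ^ n)), Nonempty (Q ≃* ↥(S : Subgroup (Cfsg.PSU 3 F (2 ^ n))))) ∨
      (∃ (F : Type) (_ : Field F) (_ : Fintype F), Fintype.card F = 2 ^ n ∧
        ∃ S : Sylow 2 (Matrix.ProjectiveSpecialLinearGroup (Fin 3) F),
          Nonempty (Q ≃* ↥(S : Subgroup (Matrix.ProjectiveSpecialLinearGroup (Fin 3) F)))) := by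
  classical
  have hαρ : ∀ x, α (ρ x) = ρ (α x) := fun x => by rw [← MulAut.mul_apply, hc.eq, MulAut.mul_apply]
  have hρC : ∀ x, x ∈ C → ρ x ∈ C := fun x hx => (hC _).2 (by rw [hαρ, (hC x).1 hx])
  let k : MulAut C := MulEquiv.ofBijective
    ({ toFun := fun x => ⟨ρ x, hρC x x.2⟩
       map_one' := Subtype.ext (map_one ρ)
       map_mul' := fun a b => Subtype.ext (map_mul ρ (a : Q) b) } : C →* C)
    (Finite.injective_iff_bijective.1 fun a b h => Subtype.ext (ρ.injective (congrArg Subtype.val h)))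
  have hk : ∀ (i : ℕ) (x : C), ((k ^ i) x : Q) = (ρ ^ i) (x : Q) := by
    intro i
    induction i with
    | zero => intro x; rfl
    | succ i ih =>
      intro x
      rw [pow_succ', MulAut.mul_apply, pow_succ', MulAut.mul_apply, ← ih]
      rfl
  have hsq : ∀ x : C, x ^ 2 = 1 := fun x => Subtype.ext (hCE.1.2 x x.2)
  haveI : Nontrivial C := Finite.one_lt_card_iff_nontrivial.1 (by
    rw [hCE.2]; exact Nat.one_lt_pow (by omega) one_lt_two)
  have htwo : ∃ x y : C, x ≠ y ∧ x ≠ 1 ∧ x ^ 2 = 1 ∧ y ≠ 1 ∧ y ^ 2 = 1 := by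
    obtain ⟨x, hx⟩ := exists_ne (1 : C)
    haveI := Fintype.ofFinite C
    have h4 : 4 ≤ Fintype.card C := by
      rw [← Nat.card_eq_fintype_card, hCE.2]
      exact le_trans (by norm_num) (Nat.pow_le_pow_right two_pos hn)
    obtain ⟨y, -, hy⟩ := Finset.exists_mem_notMem_of_card_lt_card
      (s := ({1, x} : Finset C)) (t := Finset.univ) (by
        rw [Finset.card_univ]; exact lt_of_le_of_lt Finset.card_le_two (by omega))
    simp only [Finset.mem_insert, Finset.mem_singleton, not_or] at hy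
    exact ⟨x, y, Ne.symm hy.2, hx, hsq x, hy.1, hsq y⟩
  obtain ⟨F, iF, iFin, iChar, ⟨S⟩⟩ := TransInvol.exists_singer htwo
    (fun x _ g => congrArg id (hCE.1.1.is_comm.comm x g)) k (fun x y hx _ hy _ => by
      obtain ⟨i, hi⟩ := htr x y x.2 y.2 (fun e => hx (Subtype.ext e)) (fun e => hy (Subtype.ext e))
      exact ⟨i, Subtype.ext ((hk i x).trans hi)⟩)
  have hSn : S.n = n := by
    have hb : Function.Bijective S.ι := ⟨S.ι_inj, fun x => (S.mem_iff x).1 (hsq x)⟩
    have h := Nat.card_eq_of_bijective _ hb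
    rw [S.card, hCE.2] at h
    exact Nat.pow_right_injective le_rfl h
  let X : Ctx Q F :=
    { al := α, ro := ρ
      al_al := fun x => by
        rw [← MulAut.mul_apply, ← pow_two, ← hα, pow_orderOf_eq_one]; rfl
      comm := hαρ, n := n, two_le := hn, card := hSn ▸ S.card, g := S.g, ord := hSn ▸ S.orderOf_g
      ord_ro := hρ
      iota := fun u => (S.ι u : Q)
      iota_add := fun u v => congrArg Subtype.val (S.ι_add u v)
      iota_inj := fun u v h => S.ι_inj (Subtype.ext h)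
      iota_fix := fun x => by
        rw [← hC]
        constructor
        · intro hx
          obtain ⟨u, hu⟩ := (S.mem_iff ⟨x, hx⟩).1 (hsq _)
          exact ⟨u, congrArg Subtype.val hu⟩
        · rintro ⟨u, rfl⟩; exact (S.ι u).2
      ro_iota := fun u => congrArg Subtype.val (S.k_ι u) }
  have hna' : ∃ x y : Q, ¬ Commute x y := by
    by_contra h
    push_neg at h
    exact hna ⟨⟨fun a b => (h a b).eq⟩⟩
  obtain ⟨m, ⟨D⟩⟩ := exists_square_data' hQ X hna'
  by_cases hm : ∃ r : F, r * r + r = m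
  · obtain ⟨r, hr⟩ := hm
    letI : Fintype F := Fintype.ofFinite F
    obtain ⟨P, ⟨D'⟩⟩ := exists_linear_model m hr
    exact Or.inr ⟨F, iF, inferInstance, by rw [← Nat.card_eq_fintype_card]; exact X.card, P, D.nonempty_equiv D'⟩
  · obtain ⟨E, iE, iFE, hE, P, ⟨D'⟩⟩ := exists_unitary_model hn X.card m (fun k h => hm ⟨k, h⟩)
    exact Or.inl ⟨E, iE, iFE, hE, P, D.nonempty_equiv D'⟩

end CfsgLib.PGroup.SingerPair
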