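import Cfsg.Agent.Lib.PGroup.SingerPair.Small
import Cfsg.Agent.Lib.PGroup.TransInvol.FibreProduct
import Cfsg.Agent.Lib.SU.UnitalModel
import Cfsg.Agent.Lib.SylowLie.SLThree
import Mathlib
import Cfsg.Prelude

/-!
# The two models: Sylow 2-subgroups of `PSU₃(2ⁿ)` and `PSL₃(2ⁿ)`
-/

set_option autoImplicit false

namespace CfsgLib.PGroup.SingerPair

open Subgroup

theorem SquareData.nonempty_equiv {P H : Type*} [Group P] [Group H] {F : Type} [Field F] {m : F}
    (A : SquareData P F m) (B : SquareData H F m) : Nonempty (P ≃* H) :=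
  TransInvol.nonempty_mulEquiv_of_squares A.inc B.inc A.pi B.pi A.inc_inj B.inc_inj A.pi_surj B.pi_surj
    A.exact B.exact A.central B.central fun p h e => ⟨_, A.sq p, by rw [e]; exact B.sq h⟩

variable {F : Type} [Field F] [Finite F] [CharP F 2]

theorem exists_unitary_model {n : ℕ} (hn : 2 ≤ n) (hF : Nat.card F = 2 ^ n) (m : F)
    (hm : ∀ k : F, k * k + k ≠ m) :
    ∃ (E : Type) (_ : Field E) (_ : Fintype E), Fintype.card E = 4 ^ n ∧
      ∃ S : Sylow 2 (Cfsg.PSU 3 E (2 ^ n)),
        Nonempty (SquareData ↥(S : Subgroup (Cfsg.PSU 3 E (2 ^ n))) F m) := by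
  classical
  haveI : Fact (Nat.Prime 2) := ⟨Nat.prime_two⟩
  let E := GaloisField 2 (2 * n)
  haveI : Finite E := Nat.finite_of_card_ne_zero (by
    rw [GaloisField.card 2 (2 * n) (by omega)]; positivity)
  letI : Fintype E := Fintype.ofFinite E
  have hE : Fintype.card E = 4 ^ n := by
    rw [← Nat.card_eq_fintype_card, GaloisField.card 2 (2 * n) (by omega), pow_mul]; norm_num
  refine ⟨E, inferInstance, inferInstance, hE, ?_⟩
  obtain ⟨S⟩ := (inferInstance : Nonempty (Sylow 2 (Cfsg.PSU 3 E (2 ^ n))))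
  have hE2 : Fintype.card E = (2 ^ n) ^ 2 := by rw [hE, ← pow_mul, mul_comm, pow_mul]; norm_num
  obtain ⟨U, hU⟩ := CfsgLib.SU.unital_sylow_psu (by omega) hE2 S
  refine ⟨S, ?_⟩
  letI := ZMod.algebra F 2
  haveI : Module.Finite (ZMod 2) F := Module.Finite.of_finite
  obtain ⟨φ⟩ : Nonempty (F →ₐ[ZMod 2] E) := FiniteField.nonempty_algHom_of_finrank_dvd (by
    rw [TransInvol.finrank_eq hF, GaloisField.finrank 2 (show 2 * n ≠ 0 by omega)]
    exact dvd_mul_left _ _)
  have hφbar : ∀ z, U.bar (φ z) = φ z := fun z => by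
    rw [hU, ← map_pow, TransInvol.pow_two_pow_card hF]
  have hφi : Function.Injective φ := φ.toRingHom.injective
  have hfixcard : Nat.card {k : E // U.bar k = k} = 2 ^ n := by
    have h := CfsgLib.SU.card_fixed_sq U.bar_bar U.exists_ne
    rw [Nat.card_eq_fintype_card (α := E), hE2] at h
    exact Nat.pow_left_injective two_ne_zero h
  have hφs : ∀ x, U.bar x = x → ∃ z, φ z = x := by
    intro x hx
    have hb := (Nat.bijective_iff_injective_and_card (fun z => (⟨φ z, hφbar z⟩ : {k : E // U.bar k = k}))).2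
      ⟨fun a b h => hφi (congrArg Subtype.val h), by rw [hF, hfixcard]⟩
    obtain ⟨z, hz⟩ := hb.2 ⟨x, hx⟩
    exact ⟨z, congrArg Subtype.val hz⟩
  obtain ⟨w0, hw0⟩ := CfsgLib.SU.HermAut.exists_trace_one U.bar U.bar_bar U.exists_ne
  have hbw0 : U.bar w0 = w0 + 1 := by rw [← hw0, ← add_assoc, CharTwo.add_self_eq_zero, zero_add]
  obtain ⟨s0, hs0⟩ := hφs _ (CfsgLib.SU.HermAut.bar_nm U.bar U.bar_bar U.exists_ne w0)
  rw [CfsgLib.SU.HermAut.nm, hbw0] at hs0
  let P : F →+ F := AddMonoidHom.mk' (fun k => k * k + k) fun a b => by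
    linear_combination (a * b) * (CharTwo.two_eq_zero : (2 : F) = 0)
  have hs0P : s0 ∉ P.range := by
    rintro ⟨k, hk⟩
    have hk' : φ k * φ k + φ k = w0 * (w0 + 1) := by rw [← hs0, ← hk, ← map_mul, ← map_add]; rfl
    have h : (w0 + φ k) * (w0 + φ k + 1) = 0 := by
      linear_combination hk' + (w0 * φ k + w0 + w0 * w0) * (CharTwo.two_eq_zero : (2 : E) = 0)
    have hb : U.bar w0 = w0 := by
      rcases mul_eq_zero.1 h with e | e
      · rw [CharTwo.add_eq_zero.1 e, hφbar]
      · rw [add_assoc] at e; rw [CharTwo.add_eq_zero.1 e, map_add, map_one, hφbar]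
    rw [hb, CharTwo.add_self_eq_zero] at hw0
    exact zero_ne_one hw0
  have hidx : P.range.index = 2 := by
    have hk : Nat.card P.ker = 2 := by
      rw [Nat.card_eq_two_iff]
      refine ⟨⟨0, P.map_zero⟩, ⟨1, show (1 : F) * 1 + 1 = 0 by rw [mul_one, CharTwo.add_self_eq_zero]⟩,
        fun h => zero_ne_one (congrArg Subtype.val h), ?_⟩
      refine Set.eq_univ_of_forall fun x => ?_
      have hx : (x : F) * x + x = 0 := x.2
      have hx' : (x : F) * (x + 1) = 0 := by rw [mul_add, mul_one, hx]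
      rcases mul_eq_zero.1 hx' with e | e
      · exact Or.inl (Subtype.ext e)
      · exact Or.inr (Subtype.ext (CharTwo.add_eq_zero.1 e))
    have h1 := AddSubgroup.card_mul_index P.ker
    rw [AddSubgroup.index_ker, hk] at h1
    have h2 := AddSubgroup.card_mul_index P.range
    rw [← h1, mul_comm 2] at h2
    exact Nat.eq_of_mul_eq_mul_left Nat.card_pos h2
  obtain ⟨k, hk⟩ : s0 + m ∈ P.range := by
    rw [AddSubgroup.add_mem_iff_of_index_two hidx]
    exact iff_of_false hs0P fun ⟨k, hk⟩ => hm k hk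
  have hk' : φ k * φ k + φ k = w0 * (w0 + 1) + φ m := by
    rw [← hs0, ← map_mul, ← map_add, ← map_add, ← hk]; rfl
  set w := w0 + φ k with hwdef
  have hbw : U.bar w = w + 1 := by rw [hwdef, map_add, hφbar, hbw0, add_right_comm]
  have hww : w * w + w = φ m := by
    rw [hwdef]
    linear_combination hk' + (w0 * φ k + w0 * w0 + w0) * (CharTwo.two_eq_zero : (2 : E) = 0)
  let e : F × F →+ E := AddMonoidHom.mk' (fun p => φ p.2 + φ p.1 * w) fun a b => by
    simp only [Prod.fst_add, Prod.snd_add, map_add]; ring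
  have hei : Function.Injective e := by
    rw [injective_iff_map_eq_zero]
    rintro ⟨u, v⟩ (h : φ v + φ u * w = 0)
    have hu : u = 0 := by
      by_contra hu
      have hu' : φ u ≠ 0 := fun h' => hu (hφi (h'.trans (map_zero φ).symm))
      have hb := congrArg U.bar h
      rw [map_zero, map_add, map_mul, hφbar, hφbar, hbw] at hb
      exact hu' (by linear_combination hb - h)
    subst hu
    rw [map_zero, zero_mul, add_zero] at h
    exact Prod.ext rfl (hφi (h.trans (map_zero φ).symm))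
  have heb : Function.Bijective e := (Nat.bijective_iff_injective_and_card e).2 ⟨hei, by
    rw [Nat.card_prod, hF, Nat.card_eq_fintype_card, hE2, pow_two]⟩
  let ee : F × F ≃+ E := AddEquiv.ofBijective e heb
  have hnorm : ∀ p : F × F, CfsgLib.SU.HermAut.nm U.bar (e p) = φ (phi m p) := by
    rintro ⟨u, v⟩
    show (φ v + φ u * w) * U.bar (φ v + φ u * w) = φ (m * (u * u) + u * v + v * v)
    simp only [map_add, map_mul, hφbar, hbw]
    linear_combination (φ u * φ u) * hww + (φ u * φ v * w) * (CharTwo.two_eq_zero : (2 : E) = 0)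
  choose inc hinc hinc' using fun z : F => U.exists_tau (hφbar z)
  refine ⟨{
    pi := MonoidHom.mk' (fun x => Multiplicative.ofAdd (ee.symm (U.pi x))) fun x y => by
      rw [U.pi_mul, map_add]; rfl
    inc := MonoidHom.mk' (fun z => inc z.toAdd) fun a b => U.coord_ext _ _
      (by rw [U.pi_mul, hinc, hinc, hinc, add_zero])
      (by rw [U.tau_mul, hinc', hinc', hinc', hinc, zero_mul, add_zero]; exact map_add φ _ _)
    pi_surj := fun p => by
      obtain ⟨x, hx⟩ := U.exists_pi (ee p.toAdd)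
      exact ⟨x, show Multiplicative.ofAdd (ee.symm (U.pi x)) = p by rw [hx, ee.symm_apply_apply]; rfl⟩
    inc_inj := fun a b h => by
      have h' := congrArg U.tau (show inc a.toAdd = inc b.toAdd from h)
      rw [hinc', hinc'] at h'
      exact Multiplicative.toAdd.injective (hφi h')
    exact := ?_
    central := ?_
    sq := fun x => ?_ }⟩
  · ext x
    constructor
    · rintro ⟨z, rfl⟩
      show Multiplicative.ofAdd (ee.symm (U.pi (inc z.toAdd))) = 1
      rw [hinc, map_zero]; rfl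
    · intro hx
      have hx' : ee.symm (U.pi x) = 0 := congrArg Multiplicative.toAdd (show Multiplicative.ofAdd _ = 1 from hx)
      have h0 : U.pi x = 0 := ee.symm.map_eq_zero_iff.1 hx'
      obtain ⟨z, hz⟩ := hφs _ (U.tau_fixed h0)
      exact ⟨Multiplicative.ofAdd z, U.coord_ext _ _ ((hinc z).trans h0.symm) ((hinc' z).trans hz)⟩
  · rintro _ ⟨z, rfl⟩
    exact U.mem_center_iff.2 (hinc _)
  · rw [pow_two]
    refine U.coord_ext _ _ ((U.pi_mul_self x).trans (hinc _).symm) ?_
    show _ = U.tau (inc (phi m (ee.symm (U.pi x))))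
    rw [U.tau_mul_self, hinc', ← hnorm]
    exact congrArg _ (ee.apply_symm_apply _).symm

theorem exists_linear_model (m : F) {r : F} (hr : r * r + r = m) [Fintype F] :
    ∃ S : Sylow 2 (Matrix.ProjectiveSpecialLinearGroup (Fin 3) F),
      Nonempty (SquareData ↥(S : Subgroup (Matrix.ProjectiveSpecialLinearGroup (Fin 3) F)) F m) := by
  classical
  haveI : Fact (Nat.Prime 2) := ⟨Nat.prime_two⟩
  obtain ⟨P, hP⟩ := CfsgLib.SylowLie.exists_sylow_unitri (K := F) 2
  let f := QuotientGroup.mk' (center (Matrix.SpecialLinearGroup (Fin 3) F))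
  let P₁ : Sylow 2 (Matrix.ProjectiveSpecialLinearGroup (Fin 3) F) :=
    P.mapSurjective (f := f) (QuotientGroup.mk'_surjective _)
  have hinj : Function.Injective (f.subgroupMap P.1) := by
    rw [← MonoidHom.ker_eq_bot_iff, eq_bot_iff]
    rintro ⟨x, hx⟩ hk
    have hxz : x ∈ center (Matrix.SpecialLinearGroup (Fin 3) F) :=
      (QuotientGroup.eq_one_iff x).1 (congrArg Subtype.val hk)
    obtain ⟨c, hc3, hc⟩ := Matrix.SpecialLinearGroup.mem_center_iff.1 hxz
    have hxu : x ∈ CfsgLib.AutPSL.unitri := hP ▸ hx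
    have h1 := (CfsgLib.AutPSL.mem_unitri.1 hxu).2 0
    rw [← hc] at h1
    have hc1 : c = 1 := by simpa using h1
    refine Subtype.ext (Subtype.ext ?_)
    show (x : Matrix (Fin 3) (Fin 3) F) = 1
    rw [← hc, hc1]; simp
  let e : ↥(P : Subgroup (Matrix.SpecialLinearGroup (Fin 3) F)) ≃* ↥(P₁ : Subgroup (Matrix.ProjectiveSpecialLinearGroup (Fin 3) F)) :=
    MulEquiv.ofBijective (f.subgroupMap P.1) ⟨hinj, f.subgroupMap_surjective P.1⟩
  have hmem : ∀ X : ↥(P : Subgroup (Matrix.SpecialLinearGroup (Fin 3) F)),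
      (X : Matrix.SpecialLinearGroup (Fin 3) F) ∈ CfsgLib.AutPSL.unitri := fun X => hP ▸ X.2
  -- coordinates
  let co : F × F →+ F × F := AddMonoidHom.mk' (fun p => (p.1 + p.2, r * (p.1 + p.2) + p.1)) fun a b => by
    ext <;> simp <;> ring
  let T := ↥(P : Subgroup (Matrix.SpecialLinearGroup (Fin 3) F))
  let ab : T → F × F := fun X => (((X : Matrix.SpecialLinearGroup (Fin 3) F)).1 0 1, ((X : Matrix.SpecialLinearGroup (Fin 3) F)).1 1 2)
  have hco : ∀ p, phi m (co p) = p.1 * p.2 := fun p => by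
    show m * ((p.1 + p.2) * (p.1 + p.2)) + (p.1 + p.2) * (r * (p.1 + p.2) + p.1) +
      (r * (p.1 + p.2) + p.1) * (r * (p.1 + p.2) + p.1) = p.1 * p.2
    rw [← hr]
    linear_combination ((p.1 + p.2) * (p.1 + p.2) * (r * r + r) + r * (p.1 + p.2) * p.1 + p.1 * p.1) *
      (CharTwo.two_eq_zero : (2 : F) = 0)
  choose inc hinc1 hinc2 hinc3 hinc4 using fun z : F => CfsgLib.SylowLie.exists_unitri (K := F) 0 z 0
  let incT : F → T := fun z => ⟨inc z, by
    show inc z ∈ (P : Subgroup (Matrix.SpecialLinearGroup (Fin 3) F))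
    rw [hP]; exact hinc1 z⟩
  refine ⟨P₁, ⟨{
    pi := (MonoidHom.mk' (fun X : T => Multiplicative.ofAdd (co (ab X))) (fun X Y => by
      obtain ⟨a1, a2, -⟩ := CfsgLib.SylowLie.unitri_mul_apply (hmem X) (hmem Y)
      rw [← ofAdd_add, ← map_add]
      exact congrArg _ (congrArg _ (Prod.ext a1 a2)))).comp e.symm.toMonoidHom
    inc := e.toMonoidHom.comp (MonoidHom.mk' (fun z : Multiplicative F => incT z.toAdd) fun a b => by
      obtain ⟨a1, a2, a3⟩ := CfsgLib.SylowLie.unitri_mul_apply (hinc1 a.toAdd) (hinc1 b.toAdd)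
      refine Subtype.ext (CfsgLib.SylowLie.unitri_ext (X := inc (a * b).toAdd) (Y := inc a.toAdd * inc b.toAdd)
        (hinc1 _) (mul_mem (hinc1 _) (hinc1 _)) ?_ ?_ ?_)
      · rw [a1, hinc2, hinc2, hinc2, add_zero]
      · rw [a2, hinc3, hinc3, hinc3, add_zero]
      · rw [a3, hinc4, hinc4, hinc4, hinc2, zero_mul, add_zero]; rfl)
    pi_surj := ?_
    inc_inj := fun a b h => by
      have h' : inc a.toAdd = inc b.toAdd := congrArg Subtype.val (e.injective h)
      have h4 := congrArg (fun X : Matrix.SpecialLinearGroup (Fin 3) F => X.1 0 2) h'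
      simp only [hinc4] at h4
      exact Multiplicative.toAdd.injective h4
    exact := ?_
    central := ?_
    sq := fun x => ?_ }⟩⟩
  · intro p
    obtain ⟨X, hX, x1, x2, -⟩ := CfsgLib.SylowLie.exists_unitri (K := F) (p.toAdd.2 + r * p.toAdd.1) 0
      (p.toAdd.1 + p.toAdd.2 + r * p.toAdd.1)
    refine ⟨e ⟨X, by rw [hP]; exact hX⟩, ?_⟩
    show Multiplicative.ofAdd (co (ab (e.symm (e _)))) = p
    rw [e.symm_apply_apply]
    show Multiplicative.ofAdd (_, _) = p
    refine Multiplicative.toAdd.injective (Prod.ext ?_ ?_) <;>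
    · show _ = _
      simp only [ab, x1, x2, toAdd_ofAdd]
      ring_nf
      simp [CharTwo.two_eq_zero]
  · ext x
    constructor
    · rintro ⟨z, rfl⟩
      show Multiplicative.ofAdd (co (ab (e.symm (e (incT z.toAdd))))) = 1
      rw [e.symm_apply_apply, show ab (incT z.toAdd) = 0 from Prod.ext (hinc2 _) (hinc3 _), map_zero]
      rfl
    · intro hx
      obtain ⟨X, rfl⟩ := e.surjective x
      have hx' : co (ab X) = 0 := by
        have h := congrArg Multiplicative.toAdd (show Multiplicative.ofAdd (co (ab (e.symm (e X)))) = 1 from hx)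
        rwa [e.symm_apply_apply] at h
      have h1 : (ab X).1 + (ab X).2 = 0 := congrArg Prod.fst hx'
      have h2 : r * ((ab X).1 + (ab X).2) + (ab X).1 = 0 := congrArg Prod.snd hx'
      rw [h1, mul_zero, zero_add] at h2
      rw [h2, zero_add] at h1
      refine ⟨Multiplicative.ofAdd (X : Matrix.SpecialLinearGroup (Fin 3) F).1 0 2, congrArg e (Subtype.ext ?_)⟩
      exact CfsgLib.SylowLie.unitri_ext (hinc1 _) (hmem X) ((hinc2 _).trans h2.symm) ((hinc3 _).trans h1.symm) (hinc4 _)
  · rintro _ ⟨z, rfl⟩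
    rw [mem_center_iff]
    intro y
    obtain ⟨Y, rfl⟩ := e.surjective y
    show e Y * e (incT z.toAdd) = e (incT z.toAdd) * e Y
    rw [← map_mul, ← map_mul]
    refine congrArg e (Subtype.ext ?_)
    exact ((CfsgLib.SylowLie.unitri_central_iff (hinc1 z.toAdd)).2 ⟨hinc2 _, hinc3 _⟩ _ (hmem Y)).eq.symm
  · obtain ⟨X, rfl⟩ := e.surjective x
    show e X ^ 2 = e (incT (phi m (co (ab (e.symm (e X))))))
    rw [e.symm_apply_apply, ← map_pow]
    refine congrArg e (Subtype.ext ?_)
    rw [pow_two, Subgroup.coe_mul]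
    obtain ⟨a1, a2, a3⟩ := CfsgLib.SylowLie.unitri_mul_apply (hmem X) (hmem X)
    refine CfsgLib.SylowLie.unitri_ext (mul_mem (hmem X) (hmem X)) (hinc1 _) ?_ ?_ ?_
    · rw [a1, hinc2, CharTwo.add_self_eq_zero]
    · rw [a2, hinc3, CharTwo.add_self_eq_zero]
    · rw [a3, hinc4, CharTwo.add_self_eq_zero, zero_add, hco]

end CfsgLib.PGroup.SingerPair
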