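import Cfsg.Agent.Lib.PGroup.SingerPair.Big
import Mathlib

/-!
# The groups with three layers
-/

set_option autoImplicit false

namespace CfsgLib.PGroup.SingerPair

open Subgroup
open scoped commutatorElement

/-- The quadratic map `m u² + u v + v²`. -/
def phi {F : Type} [Field F] (m : F) (p : F × F) : F := m * (p.1 * p.1) + p.1 * p.2 + p.2 * p.2

/-- A central extension of `F × F` by `F` with squaring map `phi m`. -/
structure SquareData (Q : Type*) [Group Q] (F : Type) [Field F] (m : F) where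
  pi : Q →* Multiplicative (F × F)
  inc : Multiplicative F →* Q
  pi_surj : Function.Surjective pi
  inc_inj : Function.Injective inc
  exact : inc.range = pi.ker
  central : inc.range ≤ center Q
  sq : ∀ x, x ^ 2 = inc (Multiplicative.ofAdd (phi m (pi x).toAdd))

namespace Ctx

variable {Q : Type*} [Group Q] {F : Type} [Field F] [CharP F 2] [Finite F] (C : Ctx Q F) [Finite Q]

/-- An equivariant extension of the middle coordinate to the whole group. -/
theorem exists_extension (L0 L1 L2 : C.Level) (h0 : L0.M = ⊥) (h1 : L1.M = L0.N) (h2 : L2.M = L1.N)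
    (htop : L2.N = ⊤) (hsq : ∀ x : Q, x * x ∈ L0.N) :
    ∃ b : Q → F, (∀ x y, b (x * y) = b x + b y) ∧ (∀ x, b (C.ro x) = (C.g : F) * b x) ∧
      ∀ y ∈ L1.N, b y = L1.c y := by
  classical
  haveI := L0.normal
  have hcomm : ∀ a b : Q ⧸ L0.N, a * b = b * a := by
    have h : ∀ a : Q ⧸ L0.N, a * a = 1 := fun a => by
      obtain ⟨x, rfl⟩ := QuotientGroup.mk_surjective a
      rw [← QuotientGroup.mk_mul, QuotientGroup.eq_one_iff]; exact hsq x
    intro a b
    have hi : ∀ a : Q ⧸ L0.N, a⁻¹ = a := fun a => inv_eq_of_mul_eq_one_right (h a)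
    conv_lhs => rw [← hi (a * b), mul_inv_rev, hi, hi]
  letI : CommGroup (Q ⧸ L0.N) := { (inferInstance : Group (Q ⧸ L0.N)) with mul_comm := hcomm }
  letI : Module (ZMod 2) (Additive (Q ⧸ L0.N)) := AddCommGroup.zmodModule (n := 2) fun v => by
    obtain ⟨a, rfl⟩ : ∃ a, Additive.ofMul a = v := ⟨v.toMul, rfl⟩
    obtain ⟨x, rfl⟩ := QuotientGroup.mk_surjective a
    rw [two_nsmul, ← ofMul_mul, ← QuotientGroup.mk_mul, (QuotientGroup.eq_one_iff _).2 (hsq x), ofMul_one]
  letI : Algebra (ZMod 2) F := ZMod.algebra F 2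
  let W : Submodule (ZMod 2) (Additive (Q ⧸ L0.N)) :=
    AddSubgroup.toZModSubmodule 2 (L1.N.map (QuotientGroup.mk' L0.N)).toAddSubgroup
  have hW : ∀ w : W, ∃ m ∈ L1.N, Additive.ofMul ((m : Q) : Q ⧸ L0.N) = (w : Additive (Q ⧸ L0.N)) := fun w => by
    obtain ⟨m, hm, e⟩ := (w.2 : Additive.toMul (w : Additive (Q ⧸ L0.N)) ∈ L1.N.map (QuotientGroup.mk' L0.N))
    exact ⟨m, hm, by rw [show (m : Q ⧸ L0.N) = _ from e]; rfl⟩
  choose rep hrep hrep' using hW
  have wd : ∀ a ∈ L1.N, ∀ b ∈ L1.N, (a : Q ⧸ L0.N) = b → L1.c a = L1.c b := by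
    intro a ha b hb e
    rw [QuotientGroup.eq, ← h1] at e
    have := L1.c_mul _ ha _ (L1.le e)
    rw [mul_inv_cancel_left, L1.c_M e, add_zero] at this
    exact this.symm
  let lf : W →+ F := AddMonoidHom.mk' (fun w => L1.c (rep w)) fun v w => by
    rw [← L1.c_mul _ (hrep v) _ (hrep w)]
    refine wd _ (hrep _) _ (mul_mem (hrep v) (hrep w)) (Additive.ofMul.injective ?_)
    rw [hrep', QuotientGroup.mk_mul, ofMul_mul, hrep', hrep', Submodule.coe_add]
  obtain ⟨G, hG⟩ := LinearMap.exists_extend (lf.toZModLinearMap 2)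
  let b0 : Q → F := fun x => G (Additive.ofMul (x : Q ⧸ L0.N))
  have hb0 : ∀ x y, b0 (x * y) = b0 x + b0 y := fun x y => by
    show G _ = G _ + G _
    rw [QuotientGroup.mk_mul, ofMul_mul, map_add]
  have hb1 : ∀ y ∈ L1.N, b0 y = L1.c y := by
    intro y hy
    let w : W := ⟨Additive.ofMul (y : Q ⧸ L0.N), (⟨y, hy, rfl⟩ :
      (y : Q ⧸ L0.N) ∈ L1.N.map (QuotientGroup.mk' L0.N))⟩
    have h := LinearMap.congr_fun hG w
    have e : L1.c (rep w) = L1.c y := wd _ (hrep w) y hy (Additive.ofMul.injective (hrep' w))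
    exact h.trans e
  -- averaging
  set N := 2 ^ C.n - 1 with hNdef
  let h : Q → ℕ → F := fun x k => ((C.g : F) ^ k)⁻¹ * b0 ((C.ro ^ k) x)
  refine ⟨fun x => ∑ k ∈ Finset.range N, h x k, fun x y => ?_, fun x => ?_, fun y hy => ?_⟩
  · rw [← Finset.sum_add_distrib]
    refine Finset.sum_congr rfl fun k _ => ?_
    simp only [h, map_mul, hb0, mul_add]
  · have hshift : ∀ k, h (C.ro x) k = (C.g : F) * h x (k + 1) := fun k => by
      simp only [h, pow_succ, MulAut.mul_apply, mul_inv_rev]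
      rw [← mul_assoc, ← mul_assoc, mul_inv_cancel₀ C.g.ne_zero, one_mul]
    show ∑ k ∈ Finset.range N, h (C.ro x) k = (C.g : F) * ∑ k ∈ Finset.range N, h x k
    rw [Finset.sum_congr rfl (fun k _ => hshift k), ← Finset.mul_sum]
    congr 1
    have hper : h x N = h x 0 := by
      have e1 : C.ro ^ N = 1 := by rw [hNdef, ← C.ord_ro, pow_orderOf_eq_one]
      have e2 : (C.g : F) ^ N = 1 := by
        rw [← Units.val_pow_eq_pow_val, hNdef, ← C.ord, pow_orderOf_eq_one, Units.val_one]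
      simp only [h, e1, e2, pow_zero]
    have e3 := Finset.sum_range_succ' (h x) N
    rw [Finset.sum_range_succ, hper] at e3
    exact (add_right_cancel e3).symm
  · have hk : ∀ k, (C.ro ^ k) y ∈ L1.N ∧ L1.c ((C.ro ^ k) y) = (C.g : F) ^ k * L1.c y := by
      intro k
      induction k with
      | zero => exact ⟨hy, by simp⟩
      | succ k ih =>
        rw [pow_succ', MulAut.mul_apply]
        exact ⟨L1.ro_N _ ih.1, by rw [L1.c_ro _ ih.1, ih.2, pow_succ', mul_assoc]⟩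
    have hterm : ∀ k ∈ Finset.range N, h y k = L1.c y := fun k _ => by
      show ((C.g : F) ^ k)⁻¹ * b0 ((C.ro ^ k) y) = _
      rw [hb1 _ (hk k).1, (hk k).2, inv_mul_cancel_left₀ (pow_ne_zero _ C.g.ne_zero)]
    show ∑ k ∈ Finset.range N, h y k = _
    rw [Finset.sum_congr rfl hterm, Finset.sum_const, Finset.card_range, nsmul_eq_mul]
    have hodd : Odd N := by
      refine Nat.Even.sub_odd Nat.one_le_two_pow ?_ odd_one
      exact (Nat.even_pow.2 ⟨even_two, by have := C.two_le; omega⟩)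
    obtain ⟨r, hr⟩ := hodd
    rw [hr, Nat.cast_add, Nat.cast_mul, Nat.cast_ofNat, CharTwo.two_eq_zero, zero_mul, zero_add,
      Nat.cast_one, one_mul]

theorem exists_square_data (L0 L1 L2 : C.Level) (h0 : L0.M = ⊥) (h0c : L0.c = C.co) (h1 : L1.M = L0.N)
    (h1c : L1.c = fun x => L0.c (C.d x)) (h2 : L2.M = L1.N) (h2c : L2.c = fun x => L1.c (C.d x))
    (htop : L2.N = ⊤) (hna : ∃ x y : Q, ¬ Commute x y) :
    ∃ m : F, Nonempty (SquareData Q F m) := by
  classical
  have hT2 : ∀ x : Q, x ∈ L2.N := fun x => htop ▸ mem_top x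
  have hC : ∀ {c : Q}, c ∈ L0.N → C.al c = c := fun {c} hc => by
    have := L0.d_N c hc
    rw [h0, mem_bot] at this
    exact C.d_eq_one.1 this
  have hcen : ∀ {c : Q}, c ∈ L0.N → ∀ h : Q, h * c = c * h := fun {c} hc h => by
    have := L0.central c hc h
    rw [h0, mem_bot] at this
    exact commutatorElement_eq_one_iff_mul_comm.1 this
  have hT : ∀ x ∈ L2.N, ∀ y ∈ L2.N, ⁅x, y⁆ ∈ L1.N := fun x _ y hy => h2 ▸ L2.central y hy x
  have hM1 : ∀ x ∈ L2.M, ∀ y, ⁅x, y⁆ ∈ L0.N := fun x hx y => by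
    rw [h2] at hx
    rw [← commutatorElement_inv y x]
    exact inv_mem (h1 ▸ L1.central x hx y)
  have hTM := C.commutator_mem_of_alternating L2 L1 hT (fun x hx y _ => h1.symm ▸ hM1 x hx y)
  have hT0 : ∀ x y : Q, ⁅x, y⁆ ∈ L0.N := fun x y => h1 ▸ hTM x (hT2 x) y (hT2 y)
  have hcmR : ∀ x y z : Q, ⁅x, y * z⁆ = ⁅x, y⁆ * ⁅x, z⁆ := fun x y z => by
    rw [show ⁅x, y * z⁆ = ⁅x, y⁆ * (y * ⁅x, z⁆ * y⁻¹) by simp only [commutatorElement_def]; group,
      hcen (hT0 x z) y, mul_inv_cancel_right]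
  have hcmL : ∀ x y z : Q, ⁅x * y, z⁆ = ⁅x, z⁆ * ⁅y, z⁆ := fun x y z => by
    rw [show ⁅x * y, z⁆ = (x * ⁅y, z⁆ * x⁻¹) * ⁅x, z⁆ by simp only [commutatorElement_def]; group,
      hcen (hT0 y z) x, mul_inv_cancel_right, hcen (hT0 x z)]
  have hsqmul : ∀ x y : Q, x * y * (x * y) = x * x * ⁅x⁻¹, y⁆ * (y * y) := fun x y => by
    rw [commutatorElement_def, inv_inv]; group
  have cinv : ∀ x y : Q, ⁅x⁻¹, y⁆ = ⁅x, y⁆ := fun x y => by
    have h := hcmL x⁻¹ x y
    rw [inv_mul_cancel, commutatorElement_one_left, eq_comm, mul_eq_one_iff_eq_inv] at h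
    rw [h, C.fixed_inv (hC (hT0 x y))]
  have csym : ∀ x y : Q, ⁅x, y⁆ = ⁅y, x⁆ := fun x y => by
    rw [← commutatorElement_inv y x, C.fixed_inv (hC (hT0 y x))]
  have hsqmul' : ∀ x y : Q, x * y * (x * y) = x * x * (y * y) * ⁅x, y⁆ := fun x y => by
    rw [hsqmul, cinv, mul_assoc (x * x), ← hcen (hT0 x y) (y * y), ← mul_assoc]
  have hL1 : ∀ x : Q, x * x ∈ L1.N := fun x => h2 ▸ L2.sq_mem (hT2 x)
  have hs1 : ∀ x y : Q, L1.c (x * y * (x * y)) = L1.c (x * x) + L1.c (y * y) := fun x y => by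
    have hm : ⁅x, y⁆ ∈ L1.M := h1.symm ▸ hT0 x y
    rw [hsqmul', L1.c_mul _ (mul_mem (hL1 x) (hL1 y)) _ (L1.le hm), L1.c_M hm, add_zero,
      L1.c_mul _ (hL1 x) _ (hL1 y)]
  have hc2z : ∀ y ∈ L1.N, L2.c y = 0 := fun y hy => L2.c_M (show y ∈ L2.M by rw [h2]; exact hy)
  choose s hs hs' using L2.surj
  have hs1c : ∀ x : Q, L1.c (x * x) = L1.c (s (L2.c x) * s (L2.c x)) := fun x => by
    have hm := L2.div_mem (hs (L2.c x)) (hT2 x) (hs' _)
    have h := hs1 (s (L2.c x)) ((s (L2.c x))⁻¹ * x)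
    rw [h2] at hm
    rw [mul_inv_cancel_left, L1.c_M (L1.sq_mem hm), add_zero] at h
    exact h
  have hk := linear_eq C.card C.g C.big (fun u => L1.c (s u * s u))
    (fun u v => by
      have h := hs1c (s u * s v)
      rw [L2.c_mul _ (hs u) _ (hs v), hs', hs', hs1] at h
      exact h.symm)
    (fun u => by
      have h := hs1c (C.ro (s u))
      rw [L2.c_ro _ (hs u), hs', ← map_mul, L1.c_ro _ (hL1 _)] at h
      exact h.symm)
  have habs : (∀ y ∈ L1.N, ∀ x : Q, ⁅y, x⁆ = 1) → False := by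
    intro hP1
    obtain ⟨x, y, hxy⟩ := hna
    apply hxy
    have h := C.commutator_mem_of_alternating L2 L0 (fun x _ y _ => hT0 x y) (fun x hx y hy => by
      rw [h2] at hx; rw [hP1 x hx y]; exact one_mem _) x (hT2 x) y (hT2 y)
    rw [h0, mem_bot] at h
    exact commutatorElement_eq_one_iff_mul_comm.1 h
  set κ := L1.c (s 1 * s 1) with hκdef
  have hκ : κ = 0 := by
    by_contra hne
    refine habs fun y hy x => ?_
    have hval : L1.c (s (κ⁻¹ * L1.c y) * s (κ⁻¹ * L1.c y)) = L1.c y := by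
      rw [hk, mul_inv_cancel_left₀ hne]
    have hm := L1.div_mem (hL1 _) hy hval
    rw [h1] at hm
    set z := s (κ⁻¹ * L1.c y)
    have e : y = z * z * ((z * z)⁻¹ * y) := by group
    rw [e, hcmL, hcmL, C.fixed_sq (hC (hT0 z x)), one_mul]
    exact commutatorElement_eq_one_iff_mul_comm.2 (hcen hm x).symm
  have hsq : ∀ x : Q, x * x ∈ L0.N := fun x => by
    rw [← h1, ← L1.c_zero _ (hL1 x), hs1c, hk]
    rw [hκ, zero_mul]
  obtain ⟨b, hb, hbro, hb1⟩ := C.exists_extension L0 L1 L2 h0 h1 h2 htop hsq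
  -- coordinates
  let t : Q →* Multiplicative (F × F) := MonoidHom.mk' (fun x => Multiplicative.ofAdd (L2.c x, b x))
    fun x y => by rw [L2.c_mul _ (hT2 x) _ (hT2 y), hb, ← ofAdd_add]; rfl
  have ht : ∀ x, t x = Multiplicative.ofAdd (L2.c x, b x) := fun x => rfl
  have hker : ∀ x, (L2.c x = 0 ∧ b x = 0) ↔ x ∈ L0.N := by
    intro x
    constructor
    · rintro ⟨e1, e2⟩
      have hx : x ∈ L1.N := h2 ▸ (L2.c_zero x (hT2 x)).1 e1
      rw [← h1, ← L1.c_zero x hx, ← hb1 x hx, e2]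
    · intro hx
      have hx1 : x ∈ L1.N := L1.le (h1.symm ▸ hx)
      exact ⟨L2.c_M (h2.symm ▸ hx1), by rw [hb1 x hx1, L1.c_M (h1.symm ▸ hx)]⟩
  have hsurj : Function.Surjective t := by
    intro p
    obtain ⟨m, hm, hmc⟩ := L1.surj (p.toAdd.2 + b (s p.toAdd.1))
    refine ⟨s p.toAdd.1 * m, ?_⟩
    rw [ht, L2.c_mul _ (hs _) _ (hT2 m), hs', hc2z _ (hm), add_zero, hb, hb1 m hm, hmc,
      add_left_comm, CharTwo.add_self_eq_zero, add_zero]
    rfl
  have hcongr : ∀ x y : Q, L2.c x = L2.c y → b x = b y → x⁻¹ * y ∈ L0.N := fun x y e1 e2 => by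
    have hbinv : b x⁻¹ = b x := by
      have h := hb x⁻¹ x
      rw [inv_mul_cancel] at h
      have h1' := ((hker 1).2 (one_mem _)).2
      rw [h1', eq_comm, CharTwo.add_eq_zero] at h
      exact h
    rw [← hker, L2.c_mul _ (hT2 _) _ (hT2 y), L2.c_inv (hT2 x), hb, hbinv, e1, e2]
    exact ⟨CharTwo.add_self_eq_zero _, CharTwo.add_self_eq_zero _⟩
  let Sq : Q → F := fun x => C.co (x * x)
  have hSq : ∀ x y, Sq (x * y) = Sq x + Sq y + C.co ⁅x, y⁆ := fun x y => by
    show C.co _ = C.co _ + C.co _ + _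
    rw [hsqmul', C.co_mul (hC (mul_mem (hsq x) (hsq y))) (hC (hT0 x y)),
      C.co_mul (hC (hsq x)) (hC (hsq y))]
  have hfl : ∀ x x' y, C.co ⁅x * x', y⁆ = C.co ⁅x, y⁆ + C.co ⁅x', y⁆ := fun x x' y => by
    rw [hcmL, C.co_mul (hC (hT0 x y)) (hC (hT0 x' y))]
  have hfr : ∀ x y y', C.co ⁅x, y * y'⁆ = C.co ⁅x, y⁆ + C.co ⁅x, y'⁆ := fun x y y' => by
    rw [hcmR, C.co_mul (hC (hT0 x y)) (hC (hT0 x y'))]
  have hfro : ∀ x y, C.co ⁅C.ro x, C.ro y⁆ = (C.g : F) * C.co ⁅x, y⁆ := fun x y => by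
    rw [← map_commutatorElement, C.co_ro (hC (hT0 x y))]
  have hf0 : ∀ x, ∀ y ∈ L0.N, C.co ⁅x, y⁆ = 0 := fun x y hy => by
    rw [commutatorElement_eq_one_iff_mul_comm.2 (hcen hy x), C.co_one]
  have hM11 : ∀ x ∈ L1.N, ∀ y ∈ L1.N, ⁅x, y⁆ = 1 := by
    intro x hx y hy
    have h := C.commutator_mem_of_alternating L1 L0 (fun x _ y _ => hT0 x y) (fun x hx y _ => by
      rw [h1] at hx
      rw [csym, commutatorElement_eq_one_iff_mul_comm.2 (hcen hx y)]; exact one_mem _) x hx y hy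
    rwa [h0, mem_bot] at h
  -- the pairing between the top and the middle layer
  obtain ⟨r, hrt⟩ := exists_rt F
  obtain ⟨β, b1, b2, b3, b4⟩ := C.exists_pairing L2 L1 (fun x y => C.co ⁅x, y⁆)
    (fun x _ x' _ y _ => hfl x x' y) (fun x _ y _ y' _ => hfr x y y')
    (fun x hx y hy => by rw [h2] at hx; rw [hM11 x hx y hy, C.co_one])
    (fun x _ y hy => hf0 x y (h1 ▸ hy)) (fun x _ y _ => hfro x y)
  obtain ⟨γ, hγ⟩ := form_eq C.card C.g C.big β b1 b2 b3 r hrt
  -- the section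
  choose q hq using fun u : F => hsurj (Multiplicative.ofAdd (u, 0))
  have hq1 : ∀ u, L2.c (q u) = u := fun u => congrArg Prod.fst (congrArg Multiplicative.toAdd (hq u))
  have hq2 : ∀ u, b (q u) = 0 := fun u => congrArg Prod.snd (congrArg Multiplicative.toAdd (hq u))
  have hqk : ∀ x, b x = 0 → ∀ y, C.co ⁅x, y⁆ = C.co ⁅q (L2.c x), y⁆ := by
    intro x hx y
    have h := hcongr (q (L2.c x)) x (hq1 _) ((hq2 _).trans hx.symm)
    have := hfl (q (L2.c x)) ((q (L2.c x))⁻¹ * x) y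
    rwa [mul_inv_cancel_left, csym ((q (L2.c x))⁻¹ * x), hf0 y _ h, add_zero] at this
  have hqadd : ∀ u v, b (q u * q v) = 0 ∧ L2.c (q u * q v) = u + v := fun u v =>
    ⟨by rw [hb, hq2, hq2, add_zero], by rw [L2.c_mul _ (hT2 _) _ (hT2 _), hq1, hq1]⟩
  have hqro : ∀ u, b (C.ro (q u)) = 0 ∧ L2.c (C.ro (q u)) = (C.g : F) * u := fun u =>
    ⟨by rw [hbro, hq2, mul_zero], by rw [L2.c_ro _ (hT2 _), hq1]⟩
  have hqq := TransInvol.eq_zero_of_alternating C.card C.g C.big (fun u v => C.co ⁅q u, q v⁆)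
    (fun u v w => by
      have h := hqk (q u * q v) (hqadd u v).1 (q w)
      rw [(hqadd u v).2, hfl] at h
      exact h.symm)
    (fun u v w => by
      have h := hqk (q v * q w) (hqadd v w).1 (q u)
      rw [(hqadd v w).2, hfl, csym (q v), csym (q w), csym (q (v + w))] at h
      exact h.symm)
    (fun u => by rw [commutatorElement_self, C.co_one])
    (fun u v => by
      have h := hqk (C.ro (q u)) (hqro u).1 (C.ro (q v))
      rw [(hqro u).2] at h
      have h' := hqk (C.ro (q v)) (hqro v).1 (q ((C.g : F) * u))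
      rw [(hqro v).2, csym (C.ro (q v)), csym (q ((C.g : F) * v))] at h'
      rw [← hfro, h, h'])
  -- squaring on the section and on the middle layer
  have hSq0 : ∀ x, ∀ c ∈ L0.N, Sq (x * c) = Sq x := fun x c hc => by
    rw [hSq, hf0 x c hc, show Sq c = 0 by show C.co (c * c) = 0; rw [C.fixed_sq (hC hc), C.co_one],
      add_zero, add_zero]
  have hSqc : ∀ x y, L2.c x = L2.c y → b x = b y → Sq x = Sq y := fun x y e1 e2 => by
    have := hSq0 x _ (hcongr x y e1 e2)
    rwa [mul_inv_cancel_left, eq_comm] at this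
  have hμ := linear_eq C.card C.g C.big (fun u => Sq (q u))
    (fun u v => by
      have h := hSqc (q (u + v)) (q u * q v) (by rw [hq1, (hqadd u v).2]) (by rw [hq2, (hqadd u v).1])
      rw [hSq, hqq, add_zero] at h
      exact h)
    (fun u => by
      have h := hSqc (q ((C.g : F) * u)) (C.ro (q u)) (by rw [hq1, (hqro u).2]) (by rw [hq2, (hqro u).1])
      rw [h]
      show C.co _ = _ * C.co _
      rw [← map_mul, C.co_ro (hC (hsq _))])
  choose e he he' using L1.surj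
  have hκ1 := linear_eq C.card C.g C.big (fun v => Sq (e v))
    (fun u v => by
      have h := hSqc (e (u + v)) (e u * e v)
        (by rw [hc2z _ (he _), hc2z _ (mul_mem (he u) (he v))])
        (by rw [hb1 _ (he _), hb1 _ (mul_mem (he u) (he v)), L1.c_mul _ (he u) _ (he v), he', he', he'])
      rw [hSq, hM11 _ (he u) _ (he v), C.co_one, add_zero] at h
      exact h)
    (fun u => by
      have h := hSqc (e ((C.g : F) * u)) (C.ro (e u))
        (by rw [hc2z _ (he _), hc2z _ (L1.ro_N _ (he u))])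
        (by rw [hb1 _ (he _), hb1 _ (L1.ro_N _ (he u)), L1.c_ro _ (he u), he', he'])
      rw [h]
      show C.co _ = _ * C.co _
      rw [← map_mul, C.co_ro (hC (hsq _))])
  set μ := Sq (q 1)
  set κ1 := Sq (e 1)
  have formula : ∀ x, Sq x = μ * L2.c x + κ1 * b x + γ * r (L2.c x * b x) := by
    intro x
    have h := hSqc x (q (L2.c x) * e (b x))
      (by rw [L2.c_mul _ (hT2 _) _ (hT2 _), hq1, hc2z _ (he _), add_zero])
      (by rw [hb, hq2, hb1 _ (he _), he', zero_add])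
    rw [h, hSq, hμ, hκ1, ← b4 _ (hT2 _) _ (he _), hq1, he', hγ]
  have hκγ : κ1 = γ := by
    have hd : ∀ x, C.d x ∈ L1.N := fun x => h2 ▸ L2.d_N x (hT2 x)
    obtain ⟨x, hx⟩ := hsurj (Multiplicative.ofAdd ((1 : F), (0 : F)))
    have hx1 : L2.c x = 1 := congrArg Prod.fst (congrArg Multiplicative.toAdd hx)
    have hx2 : b x = 0 := congrArg Prod.snd (congrArg Multiplicative.toAdd hx)
    have e1 : L2.c (C.al x) = 1 := by
      rw [C.al_eq, L2.c_mul _ (hT2 x) _ (hT2 _), hc2z _ (hd x), hx1, add_zero]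
    have e2 : b (C.al x) = 1 := by
      have e3 : L1.c (C.d x) = 1 := by rw [← hx1, h2c]
      rw [C.al_eq, hb, hx2, hb1 _ (hd x), e3, zero_add]
    have h := formula (C.al x)
    have h' : Sq (C.al x) = Sq x := by
      show C.co _ = C.co _
      rw [← map_mul, hC (hsq x)]
    rw [h', formula x, hx1, hx2, e1, e2] at h
    simp only [one_mul, mul_one, mul_zero, map_one, map_zero, add_zero] at h
    exact CharTwo.add_eq_zero.1 (left_eq_add.1 (by rw [← add_assoc]; exact h))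
  have hγ0 : γ ≠ 0 := by
    intro h
    refine habs fun y hy x => ?_
    apply (C.co_eq_zero (hC (hT0 y x))).1
    rw [csym, ← b4 x (hT2 x) y hy, hγ, h, zero_mul]
  refine ⟨(μ / γ) * (μ / γ), ⟨{
    pi := t
    inc := MonoidHom.mk' (fun z => C.iota (γ * r z.toAdd)) fun a b => by
      rw [← C.iota_add, ← mul_add, ← map_add]; rfl
    pi_surj := hsurj
    inc_inj := fun a b h => by
      have := r.injective (mul_left_cancel₀ hγ0 (C.iota_inj h))
      exact Multiplicative.toAdd.injective this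
    exact := ?_
    central := ?_
    sq := fun x => ?_ }⟩⟩
  · ext x
    rw [MonoidHom.mem_ker, ht]
    constructor
    · rintro ⟨z, rfl⟩
      have hz : C.iota (γ * r z.toAdd) ∈ L0.N := L0.pre _ (by rw [h0, mem_bot]; exact C.d_eq_one.2 (C.al_iota _))
      obtain ⟨e1, e2⟩ := (hker _).2 hz
      show Multiplicative.ofAdd (L2.c (C.iota _), b (C.iota _)) = 1
      rw [e1, e2]; rfl
    · intro hx
      have h3 := congrArg Multiplicative.toAdd hx
      have hxC := (hker x).1 ⟨congrArg Prod.fst h3, congrArg Prod.snd h3⟩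
      refine ⟨Multiplicative.ofAdd (r.symm (γ⁻¹ * C.co x)), ?_⟩
      show C.iota (γ * r (r.symm _)) = x
      rw [r.apply_symm_apply, mul_inv_cancel_left₀ hγ0, C.iota_co (hC hxC)]
  · rintro _ ⟨z, rfl⟩
    rw [mem_center_iff]
    exact hcen (L0.pre _ (by rw [h0, mem_bot]; exact C.d_eq_one.2 (C.al_iota _)))
  · show x ^ 2 = C.iota (γ * r (phi _ (L2.c x, b x)))
    rw [pow_two, ← C.iota_co (hC (hsq x))]
    congr 1
    show Sq x = _
    rw [formula, hκγ, phi]
    simp only [map_add, map_mul r (μ / γ * (μ / γ)), map_mul r (μ / γ), map_mul r (b x) (b x),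
      map_mul r (L2.c x) (L2.c x), hrt]
    field_simp
    ring

end Ctx

end CfsgLib.PGroup.SingerPair
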