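import Cfsg.Agent.Lib.PGroup.TransInvol.FieldEnd
import Mathlib

/-!
# Additive maps and pairings of a field of even order compatible with a primitive multiplier
-/

set_option autoImplicit false

namespace CfsgLib.PGroup.SingerPair

variable {F : Type*} [Field F] [Finite F] [CharP F 2]

theorem exists_rt (F : Type*) [Field F] [Finite F] [CharP F 2] :
    ∃ r : F ≃+* F, ∀ x, r x * r x = x := by
  haveI : ExpChar F 2 := ExpChar.prime Nat.prime_two
  refine ⟨(RingEquiv.ofBijective (frobenius F 2)
    ⟨frobenius_inj F 2, Finite.surjective_of_injective (frobenius_inj F 2)⟩).symm, fun x => ?_⟩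
  set e := RingEquiv.ofBijective (frobenius F 2)
    ⟨frobenius_inj F 2, Finite.surjective_of_injective (frobenius_inj F 2)⟩ with he
  calc e.symm x * e.symm x = (e.symm x) ^ 2 := (pow_two _).symm
    _ = e (e.symm x) := rfl
    _ = x := e.apply_symm_apply x

variable {n : ℕ} (hcard : Nat.card F = 2 ^ n) (lam : Fˣ) (hbig : TransInvol.BigDiv n (orderOf lam))
include hcard hbig

/-- Additive maps commuting with the multiplier are multiplications. -/
theorem linear_eq (f : F → F) (hf : ∀ u v, f (u + v) = f u + f v)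
    (heq : ∀ u, f ((lam : F) * u) = (lam : F) * f u) : ∀ u, f u = f 1 * u := by
  let D : F →+ F := AddMonoidHom.mk' f hf - AddMonoidHom.mulLeft (f 1)
  have hD : ∀ u, D u = f u - f 1 * u := fun u => rfl
  have h := TransInvol.eq_top_of_invariant hcard lam hbig D.ker (fun x hx => by
      rw [AddMonoidHom.mem_ker, hD] at hx ⊢
      rw [heq, mul_left_comm, ← mul_sub, hx, mul_zero])
    (s := 1) (by rw [AddMonoidHom.mem_ker, hD, mul_one, sub_self]) one_ne_zero
  intro u
  have hu : u ∈ D.ker := h ▸ AddSubgroup.mem_top u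
  rw [AddMonoidHom.mem_ker, hD] at hu
  exact sub_eq_zero.1 hu

/-- Compatible pairings are multiples of the square root of the product. -/
theorem form_eq (β : F → F → F) (hl : ∀ u v w, β (u + v) w = β u w + β v w)
    (hr : ∀ u v w, β u (v + w) = β u v + β u w)
    (heq : ∀ u v, β ((lam : F) * u) ((lam : F) * v) = (lam : F) * β u v)
    (r : F ≃+* F) (hrt : ∀ x, r x * r x = x) : ∃ κ : F, ∀ u v, β u v = κ * r (u * v) := by
  have hsym : ∀ u v, β u v = β v u := fun u v => by
    have h := TransInvol.eq_zero_of_alternating hcard lam hbig (fun a b => β a b + β b a)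
      (fun a b c => by rw [hl, hr]; ring) (fun a b c => by rw [hr, hl]; ring)
      (fun a => CharTwo.add_self_eq_zero _) (fun a b => by rw [heq, heq, mul_add]) u v
    exact CharTwo.add_eq_zero.1 h
  have hdiag : ∀ u, β u u = β 1 1 * u := linear_eq hcard lam hbig (fun u => β u u)
    (fun u v => by
      rw [hl, hr, hr, hsym v u]
      linear_combination (β u v) * (CharTwo.two_eq_zero : (2 : F) = 0))
    (fun u => heq u u)
  refine ⟨β 1 1, fun u v => CharTwo.add_eq_zero.1 ?_⟩
  refine TransInvol.eq_zero_of_alternating hcard lam hbig (fun a b => β a b + β 1 1 * r (a * b))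
    (fun a b c => by rw [hl, add_mul, map_add, mul_add]; ring)
    (fun a b c => by rw [hr, mul_add, map_add, mul_add]; ring)
    (fun a => ?_) (fun a b => ?_) u v
  · have e : r (a * a) = a := by rw [map_mul]; exact hrt a
    rw [hdiag, e, CharTwo.add_self_eq_zero]
  · have e : r ((lam : F) * a * ((lam : F) * b)) = (lam : F) * r (a * b) := by
      rw [show (lam : F) * a * ((lam : F) * b) = (lam : F) * lam * (a * b) by ring, map_mul,
        map_mul r (lam : F) lam, hrt]
    rw [heq, e]; ring

/-- An idempotent compatible pairing vanishes. -/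
theorem form_zero_of_idem (β : F → F → F) (hl : ∀ u v w, β (u + v) w = β u w + β v w)
    (hr : ∀ u v w, β u (v + w) = β u v + β u w)
    (heq : ∀ u v, β ((lam : F) * u) ((lam : F) * v) = (lam : F) * β u v)
    (hid : ∀ u v, β u (β u v) = β u v) : ∀ u v, β u v = 0 := by
  obtain ⟨r, hrt⟩ := exists_rt F
  obtain ⟨κ, hκ⟩ := form_eq hcard lam hbig β hl hr heq r hrt
  by_cases h0 : κ = 0
  · intro u v; rw [hκ, h0, zero_mul]
  exfalso
  have hfix : ∀ v, κ * r v = v := fun v => by
    have h := hid 1 v
    simp only [hκ, one_mul] at h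
    exact r.injective (mul_left_cancel₀ h0 h)
  have hk : κ = 1 := by simpa using hfix 1
  have hsq : (lam : F) * lam = (lam : F) * 1 := by
    have h1 := hrt (lam : F)
    have h2 := hfix (lam : F)
    rw [hk, one_mul] at h2
    rw [h2] at h1
    rw [mul_one]; exact h1
  have hl1 : lam = 1 := Units.ext (mul_left_cancel₀ lam.ne_zero hsq)
  obtain ⟨hn, d, hdn, hd⟩ := hbig
  rw [hl1, orderOf_one, one_mul] at hd
  have h5 : d ≤ n := Nat.le_of_dvd (by omega) hdn
  have h6 : ∀ m : ℕ, m + 4 ≤ 2 ^ (m + 2) := fun m => by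
    have := Nat.lt_two_pow_self (n := m)
    rw [pow_add]; omega
  obtain ⟨m, rfl⟩ : ∃ m, n = m + 2 := ⟨n - 2, by omega⟩
  have := h6 m
  omega

end CfsgLib.PGroup.SingerPair
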